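import Groth.Agent.L15.ParRoots.Main
import Groth.Agent.L15.TypeRLe.Global
import Groth.Agent.L08.Borel.CartanPreimage
import Groth.Agent.L08.Borel.NormField
import Groth.Agent.L15.TypeRConj.Main

/-!
Parabolic subgroups containing a maximal torus: type (R), roots.
-/

set_option autoImplicit false
set_option linter.style.haveILetI false
set_option linter.unusedSectionVars false
set_option backward.isDefEq.respectTransparency.types false
set_option maxHeartbeats 1000000
universe u

open CategoryTheory CategoryTheory.Limits AlgebraicGeometry MonoidalCategory CartesianMonoidalCategory MonObj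
open Groth.L25 Groth.L14 Groth.L14.RankOne Groth.L14.TypeR Groth.L14.BorelLoc Groth.L14.Chev.Cell

noncomputable section

namespace Groth.L15.Levi

variable {S : Scheme.{u}} {G P : Over S} [GrpObj G] [GrpObj P]

/-- The fibres of a parabolic subgroup are connected. -/
theorem hasConnectedFibres (hG : Red.IsReductive G) {p : P ⟶ G} (hP : Red.IsParabolic p) :
    RedSub.HasConnectedFibres P := fun s => by
  refine Groth.L08.Borel.isConnected_fibre_of_geom P s ?_
  haveI := (hG.2.2 s).1
  haveI := (hG.2.2 s).2.1
  haveI := (hG.2.2 s).2.2.1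
  exact Groth.L08.Borel.connectedSpace_parabolicOver (hP.2.2.2 s)

/-- A parabolic subgroup is of type (R). -/
theorem isTypeR_parabolic (hG : Red.IsReductive G) {p : P ⟶ G} (hP : Red.IsParabolic p) : RedSub.IsTypeR p := by
  haveI := hG.1; haveI := hG.2.1; haveI := hP.1; haveI := hP.2.1; haveI := hP.2.2.1
  haveI : QuasiCompact G.hom := inferInstance
  haveI : QuasiCompact P.hom := by rw [← Over.w p]; infer_instance
  refine ⟨⟨inferInstance, inferInstance⟩, inferInstance, inferInstance, hasConnectedFibres hG hP, fun s => ?_⟩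
  obtain ⟨T, gT, t, ht⟩ := Groth.L08.TorusWeights.hasMaxTorusFibres_of_parabolic
    (Groth.L08.TorusWeights.isConnected_of_isReductive hG) p hP s
  haveI := ht.1
  haveI : Mono p := Groth.L08.mono_of_closedImmersion p
  haveI : Mono ((Over.pullback (Red.geomPt s)).map p) := Functor.map_mono _ _
  haveI : IsMonHom ((Over.pullback (Red.geomPt s)).map p) := Groth.L25.MonoClosed.isMonHom_pullbackMap _ _
  exact ⟨T, gT, t, Killing.isMonHom_of_comp_mono t ((Over.pullback (Red.geomPt s)).map p),
    Groth.L08.Borel.isMaximalTorus_of_isMaxTorus ht⟩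

variable (D : Red.SplitRed G) {p : P ⟶ G} [IsMonHom p]

/-- The tangent roots of `P` are the same set `R'` at every point. -/
def ConstRoots (p : P ⟶ G) [IsMonHom p] (R' : Set D.idx) : Prop :=
  ∀ (s : S) (c : D.idx), TanAt D p (Red.geomPt s) c ↔ c ∈ R'

variable {D}

/-- The roots of a parabolic subgroup: closed, and containing every root up to sign. -/
theorem roots_of_const [Nonempty S] (hP : Red.IsParabolic p) (t : D.T ⟶ P) (ht : t ≫ p = D.i) {R' : Set D.idx}
    (hR : ConstRoots D p R') :
    (∀ a b c : D.idx, a ∈ R' → b ∈ R' → D.P.root a + D.P.root b = D.P.root c → c ∈ R') ∧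
      ∀ a, a ∈ R' ∨ D.P.reflectionPerm a a ∈ R' := by
  haveI := hP.1; haveI := hP.2.1; haveI := hP.2.2.1
  obtain ⟨s⟩ := ‹Nonempty S›
  obtain ⟨b⟩ := Groth.L14.AlmostSimple.exists_base D
  obtain ⟨n, en, hen⟩ := exists_enum (D := D) (RedSub.negRoots D.P b)
  obtain ⟨m, ep, hep⟩ := exists_enum (D := D) (RedSub.posRoots D.P b)
  let j := Red.geomPt s
  haveI : IsMonHom ((Over.pullback j).map p) := Groth.L25.MonoClosed.isMonHom_pullbackMap _ _
  haveI : IsImmersion ((Over.pullback j).map p).left :=
    MorphismProperty.overPullbackMap (P := @IsImmersion) j p inferInstance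
  haveI : Smooth (Red.bc j P).hom := MorphismProperty.pullback_snd (P := @Smooth) _ _ hP.2.2.1
  have htj : (Over.pullback j).map t ≫ (Over.pullback j).map p = (Over.pullback j).map D.i := by
    rw [← Functor.map_comp, ht]
  have key : ∀ a, (∃ v, v ≫ (Over.pullback j).map p = (splitBC j D).u a) ↔ a ∈ R' := fun a => by
    refine ((mem_tanRoots_iff (D := splitBC j D) (b := b) hen hep inferInstance ((Over.pullback j).map t) htj a).trans
      (mem_tanRoots_bc_iff hen hep j inferInstance a)).trans ⟨fun h => ?_, fun h v => (hR _ a).2 h⟩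
    exact (hR _ a).1 (h (IsLocalRing.closedPoint _))
  obtain ⟨h1, h2⟩ := ParRoots.roots_props (splitBC j D) (hP.2.2.2 s) ((Over.pullback j).map t) htj
  exact ⟨fun a c e ha hc hac => (key e).1 (h2 a c e ((key a).2 ha) ((key c).2 hc) hac),
    fun a => (h1 a).imp (key a).1 (key _).1⟩

end Groth.L15.Levi

end
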