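import Groth.Agent.L14.TypeR.LeviComm
import Groth.Agent.L14.Chart.Tangent
import Groth.Agent.L08.TorusWeights.CentReductive
import Groth.Agent.L24.MSub.TorusPts
import Groth.Agent.L25.SplitSub.Image
import Groth.Agent.L15.TypeRCent.Main

/-!
The centraliser of the image of a cocharacter of the torus of a split group.
-/

set_option autoImplicit false
set_option linter.style.haveILetI false
set_option linter.unusedSectionVars false
set_option backward.isDefEq.respectTransparency.types false
set_option maxHeartbeats 1000000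
universe u

open CategoryTheory CategoryTheory.Limits AlgebraicGeometry MonoidalCategory CartesianMonoidalCategory MonObj
open Groth.L14.RankOne Groth.L25 Groth.L14.Chart Groth.L14.Chev.Cell Groth.L14.TypeR

noncomputable section

namespace Groth.L15.Levi

variable {S : Scheme.{u}} {G : Over S} [GrpObj G] (D : Red.SplitRed G)

/-- the cocharacter of the torus with the given pairing -/
def coch (lam : D.M →+ ℤ) : Red.DS S ℤ ⟶ D.T := Red.DSmap S lam ≫ D.split.inv.hom.hom

/-- **The centraliser of the image of a cocharacter**: a closed reductive subgroup of type (R) containing the torus,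
whose roots are those killed by the cocharacter. -/
theorem exists_cochar_centralizer (lam : D.M →+ ℤ) :
    ∃ (Z : Over S) (_ : GrpObj Z) (z : Z ⟶ G) (_ : IsMonHom z) (tz : D.T ⟶ Z), tz ≫ z = D.i ∧
      IsClosedImmersion z.left ∧ Red.IsReductive Z ∧ RedSub.IsTypeR z ∧
      (∀ c, lam (D.P.root c) = 0 → ∃ v : Red.Ga S ⟶ Z, v ≫ z = D.u c) ∧
      (∀ {K : Type u} [Field K] (g : Spec (CommRingCat.of K) ⟶ S) (c : D.idx),
        TanAt D z g c → lam (D.P.root c) = 0) ∧
      ∃ (Q : Over S) (_ : GrpObj Q) (q : Q ⟶ D.T), IsMonHom q ∧ Mono q ∧ Red.IsTorus Q ∧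
        Red.IsCentralizerOf (q ≫ D.i) z ∧
          ∀ (X : Over S) (a : X ⟶ Red.DS S ℤ), ∃ b : X ⟶ Q, b ≫ q = a ≫ coch D lam := by
  classical
  let N : Type := ↥(LinearMap.range lam.toIntLinearMap)
  let φ : D.M →+ N := lam.toIntLinearMap.rangeRestrict.toAddMonoidHom
  have hφ : Function.Surjective φ := lam.toIntLinearMap.surjective_rangeRestrict
  have hφv : ∀ x, (φ x : ℤ) = lam x := fun x => rfl
  obtain ⟨r, hb⟩ := Submodule.nonempty_basis_of_pid (Module.Basis.singleton Unit ℤ) (LinearMap.range lam.toIntLinearMap)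
  obtain ⟨b⟩ := hb
  let ε : N ≃+ (Fin r → ℤ) := b.equivFun.toAddEquiv
  let Q : Over S := Red.DS S N
  have hQ : Red.IsTorus Q := Groth.L24.MSub.isTorus_DS_free N ε
  haveI := isMonHom_i (D := D)
  haveI : ∀ c, IsMonHom (D.u c) := fun c => (D.rootHom c).1
  haveI : IsMonHom D.split.inv.hom.hom := D.split.inv.hom.isMonHom_hom
  let q : Q ⟶ D.T := Red.DSmap S φ ≫ D.split.inv.hom.hom
  haveI : IsIso D.split.inv.hom.hom := ⟨D.split.hom.hom.hom, split_inv_hom, split_hom_inv⟩
  haveI : Mono (Red.DSmap S φ) := SplitSub.mono_DSmap φ hφ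
  haveI : IsMonHom q := inferInstanceAs (IsMonHom (_ ≫ _))
  haveI : Mono q := mono_comp _ _
  haveI : Mono D.i := D.maximalTorus.2.1
  haveI : IsMonHom (q ≫ D.i) := inferInstance
  haveI : Mono (q ≫ D.i) := mono_comp _ _
  obtain ⟨Z, gZ, z, hZ, hZR, hZred⟩ := Groth.L08.TorusWeights.exists_centralizer_reductive D.reductive (q ≫ D.i) hQ
  haveI := D.reductive.1; haveI := D.reductive.2.1
  have hcl : IsClosedImmersion z.left := by
    obtain ⟨Z₀, _, z₀, hc₀, hcl₀, -⟩ := Groth.L25.Locus.exists_smooth_centralizer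
      (Groth.L25.Locus.locally_of_multTypeFT (Groth.L25.Locus.isMultTypeFT_of_isTorus hQ)) (q ≫ D.i)
    obtain ⟨e, he, -, -, -⟩ := Groth.L08.TorusWeights.exists_iso_centralizer hZ hc₀
    haveI : IsIso e.hom.left := inferInstanceAs (IsIso ((Over.forget _).map e.hom))
    haveI := hcl₀
    rw [← he, Over.comp_left]; infer_instance
  haveI := hZ.1; haveI := hZ.2.1
  obtain ⟨tz, htz⟩ := (hZ.2.2 D.T D.i).2 fun X x a => by
    rw [← Category.assoc a, ← MonObj.mul_comp, ← MonObj.mul_comp,
      Groth.L08.TorusWeights.torus_comm D.maximalTorus.2.2.1]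
  have hfac : ∀ (X : Over S) (a : X ⟶ Red.DS S ℤ), ∃ b : X ⟶ Q, b ≫ q = a ≫ coch D lam := by
    intro X a
    refine ⟨a ≫ Red.DSmap S (LinearMap.range lam.toIntLinearMap).toAddSubgroup.subtype, ?_⟩
    rw [Category.assoc]
    show a ≫ Red.DSmap S _ ≫ Red.DSmap S φ ≫ _ = a ≫ Red.DSmap S lam ≫ _
    rw [← Category.assoc, ← Category.assoc (a ≫ _), ← Category.assoc a]
    refine congrArg (· ≫ D.split.inv.hom.hom) (DSPts.char_injective (MonoidHom.ext fun n => ?_))
    rw [SplitSub.char_DSmap, SplitSub.char_DSmap, SplitSub.char_DSmap]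
    rfl
  refine ⟨Z, gZ, z, hZ.1, tz, htz, hcl, hZred, hZR, fun c hc => ?_, fun {K} _ g c hT => ?_,
    Q, inferInstance, q, inferInstance, inferInstance, hQ, hZ, hfac⟩
  · refine (hZ.2.2 _ (D.u c)).2 fun X x a => ?_
    have hd : φ.comp (zmultiplesHom D.M (D.P.root c)) = 0 := by
      ext
      show (φ ((1 : ℤ) • D.P.root c) : ℤ) = 0
      rw [hφv, one_smul, hc]
    have h1 : (a ≫ q) ≫ D.split.hom.hom.hom ≫ Red.chi S (D.P.root c) = 1 := by
      refine DSPts.char_injective (MonoidHom.ext fun n => ?_)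
      simp only [q, Category.assoc]
      rw [reassoc_of% (split_inv_hom (D := D)), Red.chi, ← Category.assoc, SplitSub.char_DSmap, SplitSub.char_DSmap,
        DSPts.char_one]
      show DSPts.char a (Multiplicative.ofAdd ((φ.comp (zmultiplesHom D.M (D.P.root c))) n.toAdd)) = 1
      rw [hd]
      exact map_one _
    have h2 := commute_root (a ≫ q) c h1 x
    rw [← Category.assoc a q]
    exact h2.symm.eq
  · obtain ⟨y, hy⟩ := mem_HP.1 hT
    have key : ∀ (C : Type u) [CommRing C] [Algebra K C] (e : C), e ≠ 0 → (∃ y : Sp g C ⟶ Z, y ≫ z = gp g e ≫ D.u c) →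
        lam (D.P.root c) = 0 := by
      intro C _ _ e he hy
      let L := LaurentPolynomial C
      let ιC : C →ₐ[K] L := IsScalarTower.toAlgHom K C L
      let χN : Multiplicative N →* L :=
        { toFun := fun k => LaurentPolynomial.T (k.toAdd : ℤ)
          map_one' := LaurentPolynomial.T_zero
          map_mul' := fun k k' => by
            show LaurentPolynomial.T ((k.toAdd : ℤ) + (k'.toAdd : ℤ)) = _
            rw [LaurentPolynomial.T_add] }
      let χ : Multiplicative D.M →* L := χN.comp (AddMonoidHom.toMultiplicative φ)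
      let a : Sp g L ⟶ Q := DSPts.pt ((Scheme.ΓSpecIso (CommRingCat.of L)).inv.hom.toMonoidHom.comp χN)
      have ha : a ≫ q = tpt D g χ := by
        show a ≫ Red.DSmap S φ ≫ _ = DSPts.pt _ ≫ _
        rw [← Category.assoc]
        refine congrArg (· ≫ D.split.inv.hom.hom) (DSPts.char_injective ?_)
        rw [SplitSub.char_DSmap, DSPts.char_pt, DSPts.char_pt]
        rfl
      have hcomm := (hZ.2.2 _ (gp g e ≫ D.u c)).1 hy _ (mor g ιC) a
      rw [← Category.assoc a q, ha, ← Category.assoc (mor g ιC), mor_gp] at hcomm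
      have h2 := conj_root g D.rootHom χ c (ιC e)
      rw [← hcomm, mul_inv_cancel_right] at h2
      haveI : IsClosedImmersion (D.u c).left := (D.rootHom c).2.1
      haveI : Mono (D.u c) := Groth.L08.mono_of_closedImmersion (D.u c)
      have h3 := congrArg gv ((cancel_mono (D.u c)).1 h2)
      rw [gv_gp, gv_gp] at h3
      have h4 : LaurentPolynomial.C e = LaurentPolynomial.T (lam (D.P.root c)) * LaurentPolynomial.C e := h3
      have e1 : LaurentPolynomial.T (lam (D.P.root c)) * LaurentPolynomial.C e = AddMonoidAlgebra.single (lam (D.P.root c)) e := by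
        rw [mul_comm, ← LaurentPolynomial.single_eq_C_mul_T]
      rw [e1, ← LaurentPolynomial.single_eq_C] at h4
      by_contra hne
      have h5 := congrArg (fun f : LaurentPolynomial C => f.coeff (lam (D.P.root c))) h4
      simp only [AddMonoidAlgebra.coeff_single, Finsupp.single_apply, if_pos, if_neg (Ne.symm hne)] at h5
      exact he h5.symm
    exact key (DualNumber K) DualNumber.eps (fun h => by simpa using congrArg TrivSqZeroExt.snd h) ⟨y, hy⟩

end Groth.L15.Levi

end
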