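import Groth.Agent.L15.Levi.Split

/-!
Complements of the unipotent radical containing the torus.
-/

set_option autoImplicit false
set_option linter.style.haveILetI false
set_option linter.unusedSectionVars false
set_option backward.isDefEq.respectTransparency.types false
set_option maxHeartbeats 1200000
universe u

open CategoryTheory CategoryTheory.Limits AlgebraicGeometry MonoidalCategory CartesianMonoidalCategory MonObj
open Groth.L25 Groth.L14 Groth.L14.RankOne Groth.L14.Chart Groth.L14.TypeR Groth.L14.BorelLoc Groth.L14.Chev.Cell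
open Groth.L15.TypeRLe

noncomputable section

namespace Groth.L15.Levi

variable {S : Scheme.{u}} {G P : Over S} [GrpObj G] [GrpObj P]

/-- the inclusion of a factor into a power of the additive group, seen through products of homomorphisms -/
theorem exists_inj : ∀ (m : ℕ) (f : Fin m → (Red.Ga S ⟶ G)) (_ : ∀ k, IsMonHom (f k)) (i : Fin m),
    ∃ a : Red.Ga S ⟶ RedSub.pow (Red.Ga S) m, a ≫ RedSub.prodMap (Red.Ga S) m f = f i
  | 0, _, _, i => i.elim0
  | m + 1, f, hf, i => by
    have hone : ∀ (k : ℕ) (g : Fin k → (Red.Ga S ⟶ G)) (_ : ∀ l, IsMonHom (g l)),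
        ∃ o : Red.Ga S ⟶ RedSub.pow (Red.Ga S) k, o ≫ RedSub.prodMap (Red.Ga S) k g = 1 := by
      intro k
      induction k with
      | zero => exact fun g _ => ⟨toUnit _, MonObj.comp_one _⟩
      | succ k ih =>
        intro g hg
        obtain ⟨o, ho⟩ := ih (fun l => g l.succ) (fun l => hg l.succ)
        haveI := hg 0
        refine ⟨lift 1 o, ?_⟩
        show lift 1 o ≫ ((fst _ _ ≫ g 0) * (snd _ _ ≫ _)) = _
        rw [MonObj.comp_mul, lift_fst_assoc, lift_snd_assoc, ho, MonObj.one_comp, _root_.mul_one]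
    refine Fin.cases ?_ (fun i => ?_) i
    · obtain ⟨o, ho⟩ := hone m (fun l => f l.succ) (fun l => hf l.succ)
      refine ⟨lift (𝟙 _) o, ?_⟩
      show lift (𝟙 _) o ≫ ((fst _ _ ≫ f 0) * (snd _ _ ≫ _)) = _
      rw [MonObj.comp_mul, lift_fst_assoc, lift_snd_assoc, ho, Category.id_comp, _root_.mul_one]
    · obtain ⟨a, ha⟩ := exists_inj m (fun l => f l.succ) (fun l => hf l.succ) i
      haveI := hf 0
      refine ⟨lift 1 a, ?_⟩
      show lift 1 a ≫ ((fst _ _ ≫ f 0) * (snd _ _ ≫ _)) = _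
      rw [MonObj.comp_mul, lift_fst_assoc, lift_snd_assoc, ha, MonObj.one_comp, _root_.one_mul]

/-- `l` is a complement of `u` in `P`: a smooth closed subgroup with connected fibres, the product being all of `P`. -/
structure IsCompl {L U : Over S} [GrpObj L] [GrpObj U] (l : L ⟶ P) (u : U ⟶ P) : Prop where
  hom : IsMonHom l
  immersion : IsImmersion l.left
  smooth : Smooth L.hom
  conn : RedSub.HasConnectedFibres L
  iso : IsIso ((l ⊗ₘ u) ≫ μ[P])

section

variable {L L' U : Over S} [GrpObj L] [GrpObj L'] [GrpObj U] {l : L ⟶ P} {l' : L' ⟶ P} {u : U ⟶ P}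

theorem eq_one_of_mem [IsMonHom l] [IsMonHom u] (h : IsIso ((l ⊗ₘ u) ≫ μ[P])) {X : Over S} {x : X ⟶ L} {y : X ⟶ U}
    (e : x ≫ l = y ≫ u) : x = 1 ∧ y = 1 := by
  haveI := h
  have e1 : lift x 1 ≫ (l ⊗ₘ u) ≫ μ[P] = lift 1 y ≫ (l ⊗ₘ u) ≫ μ[P] := by
    simp only [MonObj.mul_eq_mul, MonObj.comp_mul, tensorHom_fst, tensorHom_snd, lift_fst_assoc, lift_snd_assoc,
      MonObj.one_comp, _root_.mul_one, _root_.one_mul]
    exact e
  have e2 := (cancel_mono ((l ⊗ₘ u) ≫ μ[P])).1 e1
  exact ⟨by simpa only [lift_fst] using congrArg (· ≫ fst L U) e2,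
    by simpa only [lift_snd] using (congrArg (· ≫ snd L U) e2).symm⟩

/-- Two complements, one inside the other, are equal. -/
theorem isIso_of_le [IsMonHom l] [IsMonHom u] (hl : IsIso ((l ⊗ₘ u) ≫ μ[P])) [Mono l] [Mono l'] [IsMonHom l']
    (h' : IsIso ((l' ⊗ₘ u) ≫ μ[P])) (a : L' ⟶ L) (ha : a ≫ l = l') :
    ∃ e : L' ≅ L, e.hom ≫ l = l' := by
  haveI := h'
  let θ := (l' ⊗ₘ u) ≫ μ[P]
  let b : L ⟶ L' := l ≫ inv θ ≫ fst L' U
  let c : L ⟶ U := l ≫ inv θ ≫ snd L' U
  have hd : (b ≫ l') * (c ≫ u) = l := by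
    have e : lift b c = l ≫ inv θ := CartesianMonoidalCategory.hom_ext _ _ (by simp [b]) (by simp [c])
    calc (b ≫ l') * (c ≫ u) = lift b c ≫ θ := by
          simp only [θ, MonObj.mul_eq_mul, MonObj.comp_mul, tensorHom_fst, tensorHom_snd, lift_fst_assoc, lift_snd_assoc]
      _ = l := by rw [e, Category.assoc, IsIso.inv_hom_id, Category.comp_id]
  have hc : c = 1 := by
    refine (eq_one_of_mem hl (x := (b ≫ a)⁻¹ * 𝟙 L) (y := c) ?_).2
    rw [MonObj.mul_comp, GrpObj.inv_comp, Category.assoc, ha, Category.id_comp]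
    conv_lhs => arg 2; rw [← hd]
    rw [← _root_.mul_assoc, inv_mul_cancel, _root_.one_mul]
  have hb : b ≫ l' = l := by
    conv_rhs => rw [← hd, hc, MonObj.one_comp, _root_.mul_one]
  exact ⟨⟨a, b, (cancel_mono l').1 (by rw [Category.assoc, hb, ha, Category.id_comp]),
    (cancel_mono l).1 (by rw [Category.assoc, ha, hb, Category.id_comp])⟩, ha⟩

end

/-- **A complement containing the torus lies in the standard Levi subgroup.** -/
theorem exists_hom_of_compl (D : Red.SplitRed G) {p : P ⟶ G} [IsMonHom p] [Nonempty S] (hP : Red.IsParabolic p)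
    {R' : Set D.idx} (hR : ConstRoots D p R') {L U L' : Over S} [GrpObj L] [GrpObj U] [GrpObj L'] (l : L ⟶ P)
    [IsMonHom l] [IsClosedImmersion l.left] [Smooth L.hom] (tL : D.T ⟶ L) (htL : tL ≫ l ≫ p = D.i) (u : U ⟶ P)
    [IsMonHom u] (hspan : HasSpan D p R' u) (hsym : ∀ c ∈ symPart D R', ∃ v : Red.Ga S ⟶ L, v ≫ l ≫ p = D.u c)
    (l' : L' ⟶ P) (hl' : IsCompl l' u) (t' : D.T ⟶ L') (ht' : t' ≫ l' ≫ p = D.i) :
    ∃ a : L' ⟶ L, a ≫ l = l' := by
  classical
  haveI := hl'.hom; haveI := hl'.immersion; haveI := hl'.smooth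
  haveI := hP.2.1
  haveI : Mono p := Groth.L08.mono_of_closedImmersion p
  haveI : ∀ c, IsMonHom (D.u c) := fun c => (D.rootHom c).1
  obtain ⟨b⟩ := Groth.L14.AlmostSimple.exists_base D
  obtain ⟨n, en, hen⟩ := exists_enum (D := D) (RedSub.negRoots D.P b)
  obtain ⟨k, ep, hep⟩ := exists_enum (D := D) (RedSub.posRoots D.P b)
  obtain ⟨m, e, he⟩ := exists_enum (D := D) (asymPart D R')
  obtain ⟨ψ, hψ⟩ := hspan e he
  haveI : IsImmersion (l' ≫ p).left := by rw [Over.comp_left]; infer_instance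
  haveI : IsImmersion (l ≫ p).left := by rw [Over.comp_left]; infer_instance
  obtain ⟨a, ha⟩ := le_of_tanAt (h := l' ≫ p) (h' := l ≫ p) inferInstance hl'.conn inferInstance t' ht' tL htL (𝟙 S)
    (fun x c hc => by
      obtain ⟨y, hy⟩ := mem_HP.1 hc
      have hcR : c ∈ R' := (hR _ c).1 (mem_HP.2 ⟨y ≫ l', by rw [Category.assoc]; exact hy⟩)
      by_cases hcs : opp D c ∈ R'
      · obtain ⟨v, hv⟩ := hsym c ⟨hcR, hcs⟩
        exact mem_tanRoots_of_hom (D := D) (h := l ≫ p) (b := b) hen hep v hv _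
      · exfalso
        obtain ⟨i, hi⟩ : c ∈ Set.range e := by rw [he.2]; exact ⟨hcR, hcs⟩
        obtain ⟨α, hα⟩ := exists_inj m (fun k => D.u (e k)) (fun k => inferInstance) i
        let g := Red.geomPt ((𝟙 S : S ⟶ S) x)
        let y' := gp g (DualNumber.eps : DualNumber (AlgebraicClosure (S.residueField ((𝟙 S : S ⟶ S) x)))) ≫ α ≫ ψ.hom
        have e1 : y ≫ l' = y' ≫ u := (cancel_mono p).1 (by
          simp only [y', Category.assoc, hψ, hα, hi]
          exact hy)
        have h1 := (eq_one_of_mem hl'.iso e1).1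
        rw [h1, MonObj.one_comp] at hy
        haveI : IsClosedImmersion (D.u c).left := (D.rootHom c).2.1
        haveI : Mono (D.u c) := Groth.L08.mono_of_closedImmersion (D.u c)
        have h2 := hy
        rw [← MonObj.one_comp (D.u c)] at h2
        have h3 := congrArg gv ((cancel_mono (D.u c)).1 h2)
        rw [gv_gp, ← gp_zero, gv_gp] at h3
        exact one_ne_zero (α := AlgebraicClosure (S.residueField ((𝟙 S : S ⟶ S) x))) (DualNumber.snd_eps.symm.trans (congrArg TrivSqZeroExt.snd h3).symm)) L' ⟨L'.hom, Category.comp_id _⟩ (𝟙 L')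
  exact ⟨a, (cancel_mono p).1 (by rw [Category.assoc, ha, Category.id_comp])⟩

end Groth.L15.Levi

end
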