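import Groth.Agent.L15.Levi.Type
import Groth.Agent.L08.TorusWeights.CentreIn
import Groth.Agent.L08.TorusWeights.TorusPreimage
import Groth.Agent.L15.TypeRConj.Pts
import Groth.Agent.S4116

/-!
Levi subgroups are conjugate by a unique point of the unipotent radical.
-/

set_option autoImplicit false
set_option linter.style.haveILetI false
set_option linter.unusedSectionVars false
set_option backward.isDefEq.respectTransparency.types false
set_option maxHeartbeats 1600000
universe u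

open CategoryTheory CategoryTheory.Limits AlgebraicGeometry MonoidalCategory CartesianMonoidalCategory MonObj
open Groth.L25 Groth.L14 Groth.L15.TypeRLe Groth.L14.BorelLoc

noncomputable section

namespace Groth.L15.Levi

variable {S : Scheme.{u}} {G P U L L' : Over S} [GrpObj G] [GrpObj P] [GrpObj U] [GrpObj L] [GrpObj L']

/-- the conjugate by the point `x` of `U` of the points of `L` are points of `L'` -/
def Carries (l : L ⟶ P) (l' : L' ⟶ P) (u : U ⟶ P) {X : Over S} (x : X ⟶ U) : Prop :=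
  ∀ (X' : Over S) (c : X' ⟶ X) (a : X' ⟶ L),
    ∃ b : X' ⟶ L', b ≫ l' = (c ≫ x ≫ u) * (a ≫ l) * (c ≫ x ≫ u)⁻¹

theorem carries_comp {l : L ⟶ P} {l' : L' ⟶ P} {u : U ⟶ P} {X Y : Over S} {x : X ⟶ U} (h : Carries l l' u x)
    (d : Y ⟶ X) : Carries l l' u (d ≫ x) := fun X' c a => by
  simpa only [Category.assoc] using h X' (c ≫ d) a

theorem carries_toBase {V : Scheme.{u}} (f : V ⟶ S) (l : L ⟶ P) (l' : L' ⟶ P) (u : U ⟶ P) {Y : Over V}
    {x : Y ⟶ Red.bc f U}
    (h : Carries ((Over.pullback f).map l) ((Over.pullback f).map l') ((Over.pullback f).map u) x) :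
    Carries l l' u (NilAction.toBase f x) := by
  intro X' c a
  let Y' : Over V := Over.mk (c.left ≫ Y.hom)
  let c' : Y' ⟶ Y := Over.homMk c.left rfl
  let ε : X' ≅ Over.mk (Y'.hom ≫ f) := Over.isoMk (Iso.refl _) (by
    show 𝟙 _ ≫ (c.left ≫ Y.hom) ≫ f = _
    rw [Category.id_comp, Category.assoc]; exact Over.w c)
  obtain ⟨b, hb⟩ := h Y' c' (NilAction.ofBase f (ε.inv ≫ a))
  refine ⟨ε.hom ≫ NilAction.toBase f b, ?_⟩
  have e1 := congrArg (NilAction.toBase f) hb
  rw [NilAction.toBase_mul, NilAction.toBase_mul, TypeRConj.toBase_inv, RankOne.toBase_comp_map,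
    RankOne.toBase_comp_map, NilAction.toBase_ofBase, CentralLift.toBase_comp, RankOne.toBase_comp_map] at e1
  have e2 := congrArg (ε.hom ≫ ·) e1
  have hc : ε.hom ≫ (Over.homMk c'.left (by
      show c.left ≫ Y.hom ≫ f = (c.left ≫ Y.hom) ≫ f
      rw [Category.assoc]) : Over.mk (Y'.hom ≫ f) ⟶ Over.mk (Y.hom ≫ f)) = c :=
    Over.OverMorphism.ext (Category.id_comp _)
  simpa only [MonObj.comp_mul, GrpObj.comp_inv, Category.assoc, Iso.hom_inv_id_assoc, reassoc_of% hc] using e2

/-- factorisation through a monomorphism can be checked on an open cover of the source -/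
theorem exists_fac_of_openCover {X : Over S} (𝒰 : X.left.OpenCover) (Q : X ⟶ P) (l' : L' ⟶ P) [IsImmersion l'.left]
    (h : ∀ i, ∃ (Y : Over S) (d : Y ⟶ X) (e : Y.left = 𝒰.X i) (w : Y ⟶ L'), w ≫ l' = d ≫ Q ∧ eqToHom e.symm ≫ d.left = 𝒰.f i) :
    ∃ w : X ⟶ L', w ≫ l' = Q := by
  choose Y d e w hw hd using h
  let g : ∀ i, 𝒰.X i ⟶ L'.left := fun i => eqToHom (e i).symm ≫ (w i).left
  have hg : ∀ i, g i ≫ l'.left = 𝒰.f i ≫ Q.left := fun i => by
    rw [Category.assoc, ← Over.comp_left, hw i, Over.comp_left, ← Category.assoc, hd i]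
  let G₀ := Scheme.Cover.glueMorphisms 𝒰 g fun i j => by
    rw [← cancel_mono l'.left]
    exact ((Category.assoc _ _ _).trans (congrArg _ (hg i))).trans ((pullback.condition_assoc _).trans
      ((congrArg _ (hg j)).symm.trans (Category.assoc _ _ _).symm))
  have hG₀ : G₀ ≫ l'.left = Q.left := Scheme.Cover.hom_ext 𝒰 _ _ fun i => by
    rw [Scheme.Cover.ι_glueMorphisms_assoc, hg]
  exact ⟨Over.homMk G₀ (by rw [← Over.w l', reassoc_of% hG₀, Over.w Q]), Over.OverMorphism.ext hG₀⟩

/-- factorisation through a monomorphism can be checked on an etale cover of the base -/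
theorem exists_fac_of_etale {X : Over S} {S' : Scheme.{u}} (π : S' ⟶ S) [Etale π] [Surjective π] (Q : X ⟶ P)
    (l' : L' ⟶ P) [IsImmersion l'.left]
    (h : ∀ (Y : Over S) (d : Y ⟶ X) (_ : Y ⟶ Over.mk π), ∃ w : Y ⟶ L', w ≫ l' = d ≫ Q) :
    ∃ w : X ⟶ L', w ≫ l' = Q := by
  haveI : Mono l' := Over.mono_of_mono_left l'
  obtain ⟨w, hw⟩ := h _ (Groth.L08.TorusWeights.pullPt π X) (Over.homMk (pullback.snd X.hom π) rfl)
  refine Groth.L08.TorusWeights.exists_fac_of_cover l' Q π (NilAction.ofBase π w) (Luna.SemiRank.toBase_inj π ?_)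
  rw [RankOne.toBase_comp_map, NilAction.toBase_ofBase, NilAction.toBase_ofBase, hw]

variable (hG : Red.IsReductive G) (p : P ⟶ G) (hP : Red.IsParabolic p) {l : L ⟶ P} {l' : L' ⟶ P} {u : U ⟶ P}

include hG hP

/-- A point of the radical commuting with a Levi subgroup is trivial. -/
theorem eq_one_of_commute (hl : Par.IsLevi l) [IsMonHom u] (hc : IsCompl l u) {X : Over S} (z : X ⟶ U)
    (hz : ∀ (X' : Over S) (c : X' ⟶ X) (a : X' ⟶ L), (c ≫ z ≫ u) * (a ≫ l) = (a ≫ l) * (c ≫ z ≫ u)) : z = 1 := by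
  haveI := hc.hom; haveI := hc.iso; haveI := hP.1
  choose V f hf hs T gT t htm hT using exists_torus_levi hG p hP l hl
  let π : (∐ V) ⟶ S := Sigma.desc f
  haveI : Etale π := IsZariskiLocalAtSource.sigmaDesc (P := @Etale) hf
  haveI : Surjective π := ⟨fun x => by
    obtain ⟨v, hv⟩ := hs x
    exact ⟨Sigma.ι V x v, by rw [← Scheme.Hom.comp_apply, Sigma.ι_desc]; exact hv⟩⟩
  haveI : Mono (η[U] : 𝟙_ (Over S) ⟶ U) := ⟨fun a b _ => toUnit_unique a b⟩
  let Y : Over (∐ V) := Over.mk (pullback.snd X.hom π)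
  let y : Over.mk (Y.hom ≫ π) ⟶ U := Groth.L08.TorusWeights.pullPt π X ≫ z
  have hy : y = 1 := by
    refine Over.OverMorphism.ext ?_
    let 𝒰 := (sigmaOpenCover V).pullback₁ Y.hom
    refine Scheme.Cover.hom_ext 𝒰 _ _ fun i => ?_
    -- the restriction to one piece
    let Yi : Over (V i) := Over.mk (pullback.snd Y.hom (Sigma.ι V i))
    let d : Over.mk (Yi.hom ≫ f i) ⟶ Over.mk (Y.hom ≫ π) := Over.homMk (pullback.fst Y.hom (Sigma.ι V i)) (by
      show pullback.fst Y.hom (Sigma.ι V i) ≫ Y.hom ≫ π = pullback.snd Y.hom (Sigma.ι V i) ≫ f i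
      rw [pullback.condition_assoc, Sigma.ι_desc])
    suffices h : d ≫ y = 1 by
      have h' := congrArg CommaMorphism.left h
      rw [← MonObj.comp_one d] at h'
      exact h'
    haveI := htm i
    haveI : IsMonHom ((Over.pullback (f i)).map l) := Groth.L25.MonoClosed.isMonHom_pullbackMap _ _
    haveI : IsMonHom ((Over.pullback (f i)).map u) := Groth.L25.MonoClosed.isMonHom_pullbackMap _ _
    haveI : IsMonHom ((Over.pullback (f i)).map p) := Groth.L25.MonoClosed.isMonHom_pullbackMap _ _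
    haveI := hP.2.1
    haveI : Mono p := Groth.L08.mono_of_closedImmersion p
    haveI : Mono ((Over.pullback (f i)).map p) := Functor.map_mono _ _
    let z' := NilAction.ofBase (f i) (d ≫ y)
    have hcs := Groth.L08.TorusWeights.isCentralizerOf_self (Groth.L14.Splitting.isReductive_bc hG (f i)) (hT i)
    obtain ⟨w, hw⟩ := (hcs.2.2 _ (z' ≫ (Over.pullback (f i)).map u ≫ (Over.pullback (f i)).map p)).2 fun X' c h => by
      have e : ∀ a : X' ⟶ Red.bc (f i) L,
          (c ≫ z' ≫ (Over.pullback (f i)).map u) * (a ≫ (Over.pullback (f i)).map l) =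
            (a ≫ (Over.pullback (f i)).map l) * (c ≫ z' ≫ (Over.pullback (f i)).map u) := fun a => by
        refine Luna.SemiRank.toBase_inj (f i) ?_
        rw [NilAction.toBase_mul, NilAction.toBase_mul, RankOne.toBase_comp_map, ← Category.assoc c,
          RankOne.toBase_comp_map, CentralLift.toBase_comp, NilAction.toBase_ofBase]
        simpa only [y, Category.assoc] using hz _ (_ ≫ d ≫ Groth.L08.TorusWeights.pullPt π X) (NilAction.toBase (f i) a)
      have e' := congrArg (· ≫ (Over.pullback (f i)).map p) (e (h ≫ t i))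
      simpa only [MonObj.mul_comp, Category.assoc] using e'
    have e1 : (w ≫ t i) ≫ (Over.pullback (f i)).map l = z' ≫ (Over.pullback (f i)).map u := by
      rw [← cancel_mono ((Over.pullback (f i)).map p)]
      simpa only [Category.assoc] using hw
    have hz' : z' = 1 := (eq_one_of_mem (isIso_theta_bc l u (f i)) e1).2
    have hto : NilAction.toBase (f i) (1 : Yi ⟶ Red.bc (f i) U) = 1 :=
      (MonoidHom.mk' (NilAction.toBase (f i) : (Yi ⟶ Red.bc (f i) U) → _) (NilAction.toBase_mul (f i))).map_one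
    rw [← NilAction.toBase_ofBase (f i) (d ≫ y), show NilAction.ofBase (f i) (d ≫ y) = 1 from hz', hto]
  obtain ⟨h, hh⟩ := Groth.L08.TorusWeights.exists_fac_of_cover (η[U] : 𝟙_ (Over S) ⟶ U) z π
    (NilAction.ofBase π (toUnit _)) (by
      refine Luna.SemiRank.toBase_inj π ?_
      rw [RankOne.toBase_comp_map, NilAction.toBase_ofBase, NilAction.toBase_ofBase]
      exact (show y = toUnit _ ≫ η[U] by rw [hy]; rfl).symm)
  rw [← hh, toUnit_unique h (toUnit X)]; rfl

/-- At most one point of the radical carries one Levi subgroup into the other. -/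
theorem carries_unique (hl : Par.IsLevi l) (hu : Par.IsUnipotentRadical u) (hc : IsCompl l u) (hc' : IsCompl l' u)
    {X : Over S} {x y : X ⟶ U} (hx : Carries l l' u x) (hy : Carries l l' u y) : x = y := by
  haveI := hu.1; haveI := hc'.hom; haveI := hc'.iso
  haveI := isMonHom_retr (l := l') (u := u) hu.2.2.1
  refine (inv_mul_eq_one.1 (?_ : y⁻¹ * x = 1)).symm
  have key : ∀ {z : X ⟶ U}, Carries l l' u z → ∀ (X' : Over S) (c : X' ⟶ X) (a : X' ⟶ L),
      a ≫ l ≫ retr l' u ≫ l' = (c ≫ z ≫ u) * (a ≫ l) * (c ≫ z ≫ u)⁻¹ := fun {z} hz X' c a => by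
    obtain ⟨b, hb⟩ := hz X' c a
    have e := congrArg (· ≫ retr l' u) hb
    simp only [MonObj.mul_comp, GrpObj.inv_comp, Category.assoc, u_retr, l_retr, MonObj.comp_one, Category.comp_id,
      _root_.one_mul, inv_one, _root_.mul_one] at e
    rw [← hb, e]; simp only [Category.assoc]
  refine eq_one_of_commute hG p hP hl hc _ fun X' c a => ?_
  have e1 := (key hx X' c a).symm.trans (key hy X' c a)
  simp only [MonObj.mul_comp, GrpObj.inv_comp, MonObj.comp_mul, GrpObj.comp_inv]
  generalize c ≫ x ≫ u = A, c ≫ y ≫ u = B, a ≫ l = C at e1 ⊢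
  calc B⁻¹ * A * C = B⁻¹ * (A * C * A⁻¹) * A := by group
    _ = B⁻¹ * (B * C * B⁻¹) * A := by rw [e1]
    _ = C * (B⁻¹ * A) := by group

omit hG hP

/-- Such a point exists etale-locally. -/
def LocalCarries (l : L ⟶ P) (l' : L' ⟶ P) (u : U ⟶ P) (s : S) : Prop :=
  ∃ (V : Scheme.{u}) (f : V ⟶ S) (_ : Etale f), s ∈ Set.range f.base ∧ ∃ x : Over.mk f ⟶ U, Carries l l' u x

theorem localCarries_bc {V : Scheme.{u}} (f : V ⟶ S) [Etale f] {v : V}
    (h : LocalCarries ((Over.pullback f).map l) ((Over.pullback f).map l') ((Over.pullback f).map u) v) :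
    LocalCarries l l' u (f v) := by
  obtain ⟨W, g, hg, ⟨w, hw⟩, x, hx⟩ := h
  haveI := hg
  exact ⟨W, g ≫ f, inferInstance, ⟨w, by rw [← hw]; exact Scheme.Hom.comp_apply _ _ _⟩, _, carries_toBase f l l' u hx⟩

include hG hP

/-- The case of maximal tori inside both Levi subgroups, conjugate by a given point of the parabolic. -/
theorem exists_carries [IsMonHom u] (hu : IsRadBC u) (hn : AlgGrp.IsNormalHom u) (hc : IsCompl l u)
    (hc' : IsCompl l' u) {T T' : Over S} [GrpObj T] [GrpObj T'] (t : T ⟶ L) (t' : T' ⟶ L') [IsMonHom t']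
    (hT' : Red.IsMaximalTorus ((t' ≫ l') ≫ p)) (g : 𝟙_ (Over S) ⟶ P) (hg : SGA3x.ConjBy (t ≫ l) (t' ≫ l') g) :
    ∃ x : 𝟙_ (Over S) ⟶ U, Carries l l' u x := by
  haveI := hc.hom; haveI := hc.iso; haveI := hc'.hom; haveI := hc.immersion
  obtain ⟨φ, hφ⟩ := hg
  -- the radical part of the conjugating point
  obtain ⟨x, hx⟩ := hn _ (g ≫ retr l u ≫ l) (g ≫ retrU l u)
  refine ⟨x, ?_⟩
  have hgd : g = (x ≫ u) * (g ≫ retr l u ≫ l) := by
    rw [← hx, inv_mul_cancel_right, Category.assoc]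
    exact (retr_decomp (l := l) (u := u) g).symm
  let l'' : L ⟶ P := l ≫ Chev.inner (x ≫ u)
  haveI := Chev.isMonHom_inner (x ≫ u)
  haveI := Chev.isIso_inner (x ≫ u)
  haveI := Chev.isMonHom_inner x
  haveI := Chev.isIso_inner x
  haveI : IsIso (Chev.inner (x ≫ u)).left :=
    inferInstanceAs (IsIso ((Over.forget _).map (Chev.inner (x ≫ u))))
  have hu' : (asIso (Chev.inner x)).hom ≫ u = u ≫ (asIso (Chev.inner (x ≫ u))).hom := by
    show Chev.inner x ≫ u = u ≫ Chev.inner (x ≫ u)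
    rw [Chev.comp_inner, Chev.inner]
    simp only [MonObj.mul_comp, GrpObj.inv_comp, Category.assoc, Category.id_comp]
  haveI : IsMonHom (asIso (Chev.inner (x ≫ u))).hom := inferInstanceAs (IsMonHom (Chev.inner (x ≫ u)))
  have hc'' : IsCompl l'' u :=
    ⟨inferInstance, by show IsImmersion (l.left ≫ (Chev.inner (x ≫ u)).left); infer_instance, hc.smooth, hc.conn,
      isIso_theta_congr (l := l) (u := u) l'' u (Iso.refl L) (asIso (Chev.inner x)) (asIso (Chev.inner (x ≫ u)))
        (Category.id_comp _) hu'⟩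
  -- the conjugate torus lies in both
  let lam := g ≫ retr l u
  have ht'' : (φ.inv ≫ t ≫ Chev.inner lam) ≫ l'' = t' ≫ l' := by
    have e : (t ≫ Chev.inner lam) ≫ l'' = φ.hom ≫ t' ≫ l' := by
      rw [← hφ, show l'' = l ≫ Chev.inner (x ≫ u) from rfl, ← Category.assoc (t ≫ Chev.inner lam), Chev.comp_inner,
        Chev.comp_inner]
      conv_rhs => rw [hgd]
      simp only [lam, MonObj.mul_comp, GrpObj.inv_comp, MonObj.comp_mul, GrpObj.comp_inv, Category.assoc]
      group
    rw [Category.assoc φ.inv, e, Iso.inv_hom_id_assoc]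
  obtain ⟨a, ha⟩ := exists_hom_of_compl' hG p hP u hu (t' ≫ l') hT' l' l'' hc' hc'' t' rfl _ ht''
  intro X' c b
  refine ⟨b ≫ a, ?_⟩
  rw [Category.assoc, ha, ← Category.assoc, Chev.comp_inner, toUnit_unique c (toUnit X')]

/-- **Etale-locally some point of the radical carries one Levi subgroup into the other.** -/
theorem localCarries [IsMonHom u] (hu : IsRadBC u) (hn : AlgGrp.IsNormalHom u) (hl : Par.IsLevi l)
    (hl' : Par.IsLevi l') (hc : IsCompl l u) (hc' : IsCompl l' u) (s : S) : LocalCarries l l' u s := by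
  haveI := hP.1; haveI := hc.hom; haveI := hc'.hom
  obtain ⟨V, f, hf, ⟨v, hv⟩, T, gT, t, htm, hT⟩ := exists_torus_levi hG p hP l hl s
  subst hv
  haveI := hf
  obtain ⟨V', f', hf', ⟨v', hv'⟩, T', gT', t', htm', hT'⟩ := exists_torus_levi hG p hP l' hl' (f v)
  haveI := hf'
  -- a common neighbourhood
  obtain ⟨w, hw, hw'⟩ := Scheme.Pullback.exists_preimage_pullback (f := f) (g := f') v v' hv'.symm
  let c := pullback.fst f f' ≫ f
  haveI : Etale (pullback.fst f f') := MorphismProperty.pullback_fst (P := @Etale) _ _ hf'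
  haveI : Etale c := inferInstanceAs (Etale (_ ≫ _))
  have hv'' : c w = f v := by
    show (pullback.fst f f' ≫ f) w = _
    rw [Scheme.Hom.comp_apply, hw]
  rw [← hv'']
  refine localCarries_bc c ?_
  let F := Over.pullback c
  have hGc := Groth.L14.Splitting.isReductive_bc hG c
  have hPc := isParabolic_bc hG hP c
  haveI : IsMonHom (F.map l) := Groth.L25.MonoClosed.isMonHom_pullbackMap _ _
  haveI : IsMonHom (F.map l') := Groth.L25.MonoClosed.isMonHom_pullbackMap _ _
  haveI : IsMonHom (F.map u) := Groth.L25.MonoClosed.isMonHom_pullbackMap _ _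
  have pull : ∀ {W : Scheme.{u}} (k : pullback f f' ⟶ W) (j : W ⟶ S) (hkj : k ≫ j = c) {A : Over S} [GrpObj A]
      (m : A ⟶ P) (B : Over W) [GrpObj B] (b : B ⟶ Red.bc j A), IsMonHom b →
      Red.IsMaximalTorus (b ≫ (Over.pullback j).map m ≫ (Over.pullback j).map p) →
      ∃ b' : Red.bc k B ⟶ Red.bc c A, IsMonHom b' ∧ Red.IsMaximalTorus ((b' ≫ F.map m) ≫ F.map p) := by
    intro W k j hkj A _ m B _ b hb hB
    have hGj := Groth.L14.Splitting.isReductive_bc hG j
    haveI := hGj.1; haveI := hGj.2.1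
    let bA := ActBC.bcCompIso k j A hkj
    let bG := ActBC.bcCompIso k j G hkj
    haveI : IsMonHom bA.hom := ActBC.bcCompIso_isMonHom (G := A) _ _ _
    haveI : IsMonHom bG.hom := ActBC.bcCompIso_isMonHom (G := G) _ _ _
    haveI : IsMonHom ((Over.pullback k).map b) := Groth.L25.MonoClosed.isMonHom_pullbackMap _ _
    refine ⟨(Over.pullback k).map b ≫ bA.hom, inferInstance, ?_⟩
    have h := Groth.L08.Borel.isMaximalTorus_comp_iso (Groth.L08.Borel.isMaximalTorus_bc hB k) bG
    simpa only [Functor.map_comp, Category.assoc, bA, bG, F, ActBC.bcCompIso_hom_naturality,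
      ActBC.bcCompIso_hom_naturality_assoc] using h
  obtain ⟨t₁, ht₁, hT₁⟩ := pull (pullback.fst f f') f rfl l T t htm hT
  obtain ⟨t₂, ht₂, hT₂⟩ := pull (pullback.snd f f') f' pullback.condition.symm l' T' t' htm' hT'
  haveI := hPc.1; haveI := hPc.2.1; haveI := hPc.2.2.1; haveI := hGc.1; haveI := hGc.2.1
  haveI : Mono (F.map p) := Groth.L08.mono_of_closedImmersion _
  haveI : IsAffineHom (Red.bc c P).hom := by rw [← Over.w (F.map p)]; infer_instance
  obtain ⟨W, h, hh, hhs, g, hg⟩ := Groth.Agent.S4116.result _ (Red.bc c P) _ _ (t₁ ≫ F.map l) (t₂ ≫ F.map l')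
    (Killing.isMaximalTorus_of_comp _ (F.map p) hT₁) (Killing.isMaximalTorus_of_comp _ (F.map p) hT₂)
  haveI := hh; haveI := hhs
  obtain ⟨y, rfl⟩ := h.surjective w
  refine localCarries_bc h ⟨W, 𝟙 W, inferInstance, ⟨y, rfl⟩, ?_⟩
  let K := Over.pullback h
  haveI : IsMonHom (K.map t₂) := Groth.L25.MonoClosed.isMonHom_pullbackMap _ _
  haveI : IsMonHom (K.map (F.map u)) := Groth.L25.MonoClosed.isMonHom_pullbackMap _ _
  obtain ⟨x, hx⟩ := exists_carries (Groth.L14.Splitting.isReductive_bc hGc h) (K.map (F.map p))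
    (isParabolic_bc hGc hPc h) ((hu.bc c).bc h) ((hu.bc c).out h).2.2.1 ((hc.bc c).bc h) ((hc'.bc c).bc h)
    (K.map t₁) (K.map t₂) (by rw [← K.map_comp, ← K.map_comp]; exact Groth.L08.Borel.isMaximalTorus_bc hT₂ h) g
    (by rw [← K.map_comp, ← K.map_comp]; exact hg)
  exact ⟨_, carries_comp hx (toUnit _)⟩

/-- **Levi subgroups are conjugate by a unique point of the radical.** -/
theorem existsUnique_carries [IsMonHom u] (hu : IsRadBC u) (hur : Par.IsUnipotentRadical u) (hl : Par.IsLevi l)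
    (hl' : Par.IsLevi l') (hc : IsCompl l u) (hc' : IsCompl l' u) :
    ∃! x : 𝟙_ (Over S) ⟶ U, Carries l l' u x := by
  refine existsUnique_of_exists_of_unique ?_ fun x y hx hy => carries_unique hG p hP hl hur hc hc' hx hy
  haveI := hc'.immersion; haveI := hc'.hom
  choose V f hf hs x hx using localCarries hG p hP hu hur.2.2.1 hl hl' hc hc'
  let π : (∐ V) ⟶ S := Sigma.desc f
  haveI : Etale π := IsZariskiLocalAtSource.sigmaDesc (P := @Etale) hf
  haveI : Surjective π := ⟨fun z => by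
    obtain ⟨v, hv⟩ := hs z
    exact ⟨Sigma.ι V z v, by rw [← Scheme.Hom.comp_apply, Sigma.ι_desc]; exact hv⟩⟩
  let C : Over S := Over.mk π
  let a : (∐ V) ⟶ U.left := Sigma.desc fun i => (x i).left
  let xC : C ⟶ U := Over.homMk a (Sigma.hom_ext _ _ fun i => by
    show Sigma.ι V i ≫ a ≫ U.hom = Sigma.ι V i ≫ π
    rw [Sigma.ι_desc_assoc, Sigma.ι_desc]; exact Over.w (x i))
  have hxC : Carries l l' u xC := fun X' c b => by
    let Q := (c ≫ xC ≫ u) * (b ≫ l) * (c ≫ xC ≫ u)⁻¹
    obtain ⟨w, hw⟩ := exists_fac_of_openCover ((sigmaOpenCover V).pullback₁ c.left) Q l' fun i => by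
      let X : Over S := Over.mk (pullback.snd c.left (Sigma.ι V i) ≫ f i)
      let d : X ⟶ X' := Over.homMk (pullback.fst c.left (Sigma.ι V i)) (by
        show pullback.fst c.left (Sigma.ι V i) ≫ X'.hom = pullback.snd c.left (Sigma.ι V i) ≫ f i
        rw [← Over.w c]
        show pullback.fst c.left (Sigma.ι V i) ≫ c.left ≫ π = _
        rw [pullback.condition_assoc, Sigma.ι_desc])
      let e : X ⟶ Over.mk (f i) := Over.homMk (pullback.snd c.left (Sigma.ι V i)) rfl
      obtain ⟨w, hw⟩ := hx i X e (d ≫ b)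
      have he : d ≫ c ≫ xC = e ≫ x i := Over.OverMorphism.ext (by
        show pullback.fst c.left (Sigma.ι V i) ≫ c.left ≫ a = pullback.snd c.left (Sigma.ι V i) ≫ (x i).left
        rw [pullback.condition_assoc, Sigma.ι_desc])
      refine ⟨X, d, rfl, w, ?_, Category.id_comp _⟩
      rw [hw]
      simp only [Q, MonObj.comp_mul, GrpObj.comp_inv, reassoc_of% he, Category.assoc]
    exact ⟨w, hw⟩
  let c₀ : C ⟶ 𝟙_ (Over S) := toUnit C
  haveI : Flat c₀.left := inferInstanceAs (Flat π)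
  haveI : Surjective c₀.left := ‹Surjective π›
  haveI : LocallyOfFinitePresentation c₀.left := inferInstanceAs (LocallyOfFinitePresentation π)
  obtain ⟨x₀, hx₀⟩ := Groth.L08.Borel.exists_desc_fppf c₀ xC fun a b _ =>
    carries_unique hG p hP hl hur hc hc' (carries_comp hxC a) (carries_comp hxC b)
  refine ⟨x₀, fun X' c b => ?_⟩
  obtain ⟨w, hw⟩ := exists_fac_of_etale π ((c ≫ x₀ ≫ u) * (b ≫ l) * (c ≫ x₀ ≫ u)⁻¹) l' fun X d dC => by
    obtain ⟨w, hw⟩ := hxC X dC (d ≫ b)
    refine ⟨w, ?_⟩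
    rw [hw, ← hx₀]
    simp only [MonObj.comp_mul, GrpObj.comp_inv, Category.assoc]
    rw [← Category.assoc dC c₀, toUnit_unique (dC ≫ c₀) (d ≫ c), Category.assoc]
  exact ⟨w, hw⟩

omit hG hP in
/-- the inverse isomorphisms between two complements -/
theorem retr_retr [IsMonHom l] [IsMonHom l'] [IsMonHom u] (hn : AlgGrp.IsNormalHom u) [IsIso ((l ⊗ₘ u) ≫ μ[P])]
    [IsIso ((l' ⊗ₘ u) ≫ μ[P])] : (l ≫ retr l' u) ≫ l' ≫ retr l u = 𝟙 L := by
  haveI := isMonHom_retr (l := l) (u := u) hn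
  have e := congrArg (· ≫ retr l u) (retr_decomp (l := l') (u := u) l)
  simp only [MonObj.mul_comp, Category.assoc, u_retr, MonObj.comp_one, l_retr, _root_.mul_one] at e
  rw [Category.assoc]; exact e

/-- **Levi subgroups are conjugate by a unique point of the radical**, as isomorphisms over the parabolic. -/
theorem existsUnique_conj [IsMonHom u] (hu : IsRadBC u) (hur : Par.IsUnipotentRadical u) (hl : Par.IsLevi l)
    (hl' : Par.IsLevi l') (hc : IsCompl l u) (hc' : IsCompl l' u) :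
    ∃! x : 𝟙_ (Over S) ⟶ U, ∃ e : L ≅ L', e.hom ≫ l' = (toUnit L ≫ x ≫ u) * l * (toUnit L ≫ x ≫ u)⁻¹ := by
  haveI := hc.hom; haveI := hc'.hom; haveI := hc.iso; haveI := hc'.iso
  obtain ⟨x, hx, huniq⟩ := existsUnique_carries hG p hP hu hur hl hl' hc hc'
  refine ⟨x, ?_, fun y ⟨e, he⟩ => huniq y fun X' c a => ⟨a ≫ e.hom, ?_⟩⟩
  · obtain ⟨b, hb⟩ := hx L (toUnit L) (𝟙 L)
    rw [Category.id_comp] at hb
    haveI := isMonHom_retr (l := l') (u := u) hur.2.2.1
    have hb' : b = l ≫ retr l' u := by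
      have e := congrArg (· ≫ retr l' u) hb
      simpa only [MonObj.mul_comp, GrpObj.inv_comp, Category.assoc, u_retr, l_retr, MonObj.comp_one, Category.comp_id,
        _root_.one_mul, inv_one, _root_.mul_one] using e
    refine ⟨⟨l ≫ retr l' u, l' ≫ retr l u, retr_retr hur.2.2.1, retr_retr hur.2.2.1⟩, ?_⟩
    rw [← hb, hb']
  · rw [Category.assoc, he, toUnit_unique c (toUnit X'), MonObj.comp_mul, MonObj.comp_mul, GrpObj.comp_inv,
      ← Category.assoc a, toUnit_unique (a ≫ toUnit L) (toUnit X')]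

end Groth.L15.Levi

end
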