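import Groth.Agent.L08.Borel.MaxTorusDesc
import Groth.Agent.L08.Borel.CentKernel
import Groth.Agent.L23.Descent

/-!
Closed subgroups descend along fpqc coverings.
-/

set_option autoImplicit false
set_option backward.isDefEq.respectTransparency.types false
set_option linter.style.haveILetI false
set_option linter.unusedSectionVars false
universe u

open CategoryTheory CategoryTheory.Limits MonoidalCategory CartesianMonoidalCategory MonObj GrpObj AlgebraicGeometry

noncomputable section

namespace Groth.L15.Levi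

open Groth.L25 Groth.L25.Descent

variable {S S' : Scheme.{u}} {π : S' ⟶ S} {G : Over S} [GrpObj G] {H' : Over S'} [GrpObj H']
  (j' : H' ⟶ Red.bc π G)

/-- **descent of a closed subgroup whose two pullbacks agree** -/
theorem exists_closedSubgroup_desc [Flat π] [Surjective π]
    (hcov : ∀ V : S.Opens, IsAffineOpen V → ∃ W : S'.Opens, IsCompact (W : Set S') ∧ π.base '' (W : Set S') = (V : Set S))
    [IsMonHom j'] [IsClosedImmersion j'.left]
    (huniq : ∀ (P : Scheme.{u}) (p₁ p₂ : P ⟶ S') (h : p₁ ≫ π = p₂ ≫ π),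
      ∃ φ : Red.bc p₁ H' ≅ Red.bc p₂ H', φ.hom ≫ pullInc j' p₂ h.symm = pullInc j' p₁ rfl) :
    ∃ (H : Over S) (_ : GrpObj H) (j : H ⟶ G), IsMonHom j ∧ IsClosedImmersion j.left ∧
      ∃ φ : Red.bc π H ≅ H', IsMonHom φ.hom ∧ φ.hom ≫ j' = (Over.pullback π).map j := by
  suffices hd : ∃ (H : Over S) (j : H ⟶ G), IsClosedImmersion j.left ∧
      ∃ φ : Red.bc π H ≅ H', φ.hom ≫ j' = (Over.pullback π).map j by
    obtain ⟨H, j, hj, φ, hφ⟩ := hd
    have : Mono j := Groth.L08.mono_of_closedImmersion j
    obtain ⟨hg, hjm⟩ := Locus.exists_subgroup j (Sub j') (points_iff j' hcov j φ hφ) (sub_one j') (sub_mul j') (sub_inv j')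
    letI := hg
    have := hjm
    have : Mono j' := Over.mono_of_mono_left j'
    have : IsMonHom φ.hom := Bridge.isMonHom_of_mul φ.hom fun Y a b => by
      rw [← cancel_mono j', Category.assoc, hφ, MonObj.mul_comp (a ≫ φ.hom) (b ≫ φ.hom) j', Category.assoc, Category.assoc, hφ]
      exact MonObj.mul_comp a b ((Over.pullback π).map j)
    exact ⟨H, hg, j, hjm, hj, φ, this, hφ⟩
  let q₀ := pullback.fst G.hom π
  have : Flat q₀ := MorphismProperty.pullback_fst G.hom π inferInstance
  have : Surjective q₀ := MorphismProperty.pullback_fst G.hom π inferInstance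
  have hcov₀ : ∀ V : G.left.Opens, IsAffineOpen V → ∃ W : (pullback G.hom π).Opens,
      IsCompact (W : Set ↥(pullback G.hom π)) ∧ q₀.base '' (W : Set ↥(pullback G.hom π)) = (V : Set G.left) :=
    fun V hV => MultTypeBC.exists_compact_image π hcov G.hom V hV
  have : Groth.L20.SchDesc.Cov q₀ := cov_of_cover q₀ hcov₀
  let f : H'.left ⟶ pullback G.hom π := j'.left
  have hfs : f ≫ pullback.snd G.hom π = H'.hom := Over.w j'
  have hex : ∀ {T : Scheme.{u}} (v : T ⟶ H'.left) (x : T ⟶ pullback G.hom π),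
      v ≫ f ≫ q₀ = x ≫ q₀ → ∃ w : T ⟶ H'.left, w ≫ f = x := by
    intro T v x h
    have hc : (v ≫ H'.hom) ≫ π = (x ≫ pullback.snd G.hom π) ≫ π := by
      rw [Category.assoc, Category.assoc, ← pullback.condition, ← Category.assoc x, ← h, ← hfs]
      simp only [q₀, Category.assoc, pullback.condition]
    obtain ⟨φ, hφ⟩ := huniq _ (v ≫ H'.hom) (x ≫ pullback.snd G.hom π) hc
    let a : T ⟶ (Red.bc (v ≫ H'.hom) H').left := pullback.lift v (𝟙 T) (by rw [Category.id_comp])
    let w : T ⟶ H'.left := a ≫ φ.hom.left ≫ pullback.fst H'.hom (x ≫ pullback.snd G.hom π)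
    have ha : a ≫ φ.hom.left ≫ pullback.snd H'.hom (x ≫ pullback.snd G.hom π) = 𝟙 T := by
      rw [show φ.hom.left ≫ pullback.snd H'.hom _ = pullback.snd H'.hom (v ≫ H'.hom) from Over.w φ.hom]
      exact pullback.lift_snd _ _ _
    refine ⟨w, pullback.hom_ext ?_ ?_⟩
    · have h2 := congrArg (fun m => m.left ≫ pullback.fst G.hom ((v ≫ H'.hom) ≫ π)) hφ
      simp only [Over.comp_left, Category.assoc, Groth.L25.Descent.pullInc_fst] at h2
      show ((a ≫ φ.hom.left ≫ pullback.fst H'.hom _) ≫ f) ≫ q₀ = x ≫ q₀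
      rw [← h]
      simp only [Category.assoc]
      refine (congrArg (a ≫ ·) h2).trans ?_
      exact pullback.lift_fst_assoc _ _ _ _
    · rw [Category.assoc, hfs]
      show (a ≫ φ.hom.left ≫ pullback.fst H'.hom _) ≫ H'.hom = _
      rw [Category.assoc, Category.assoc, pullback.condition, ← Category.assoc φ.hom.left, ← Category.assoc a, ha,
        Category.id_comp]
  choose act hact using @hex
  have : IsImmersion f := (inferInstance : IsImmersion j'.left)
  let P : Groth.L20.SchDesc.Pre q₀ f :=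
    { act := act
      hom := hact
      natural := fun g v x e e' => (cancel_mono f).1 (by rw [hact, Category.assoc, hact])
      self := fun v e => (cancel_mono f).1 (hact _ _ _)
      comp := fun v x y e e' e'' => (cancel_mono f).1 (by rw [hact, hact]) }
  obtain ⟨d⟩ := Groth.L20.SchDesc.effective_of_isIndQuasiAffineHom
    (Groth.L20.isIndQuasiAffineHom_of_isImmersion f) P
  let H : Over S := Over.mk (d.a ≫ G.hom)
  let j : H ⟶ G := Over.homMk d.a rfl
  have sq : IsPullback d.q H'.hom (d.a ≫ G.hom) π := by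
    have h1 := d.isPullback.flip.paste_vert (IsPullback.of_hasPullback G.hom π)
    rwa [hfs] at h1
  let e : H' ≅ Red.bc π H := Over.isoMk sq.isoPullback sq.isoPullback_hom_snd
  have he : e.hom ≫ (Over.pullback π).map j = j' := by
    apply Over.OverMorphism.ext
    apply pullback.hom_ext
    · show (sq.isoPullback.hom ≫ ((Over.pullback π).map j).left) ≫ pullback.fst G.hom π = f ≫ q₀
      rw [Category.assoc, ActBC.pullback_map_left_fst, d.isPullback.w]
      exact sq.isoPullback_hom_fst_assoc d.a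
    · exact (Over.w (e.hom ≫ (Over.pullback π).map j)).trans (Over.w j').symm
  refine ⟨H, j, ?_, e.symm, ?_⟩
  · have h1 : IsClosedImmersion (pullback.snd d.a q₀) := by
      rw [← d.isPullback.flip.isoPullback_inv_snd]
      exact (MorphismProperty.cancel_left_of_respectsIso _ _ _).2 ‹IsClosedImmersion j'.left›
    refine FpqcLocal.of_fpqc (P := @IsClosedImmersion) d.a (𝟙 G.left) q₀ hcov₀ fun s => ⟨⊤, trivial, ?_⟩
    refine FpqcLocal.bc_comp d.a (pullback.snd (𝟙 G.left) ((⊤ : Scheme.Opens _).ι ≫ q₀) ≫ (⊤ : Scheme.Opens _).ι) q₀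
      (pullback.fst (𝟙 G.left) ((⊤ : Scheme.Opens _).ι ≫ q₀)) ?_ h1
    rw [Category.assoc, ← pullback.condition, Category.comp_id]
  · rw [Iso.symm_hom, Iso.inv_comp_eq]
    exact he.symm

/-- the coverings used for descent: etale surjective morphisms -/
theorem cover_of_etale {π : S' ⟶ S} [Etale π] [Surjective π] (V : S.Opens) (hV : IsAffineOpen V) :
    ∃ W : S'.Opens, IsCompact (W : Set S') ∧ π.base '' (W : Set S') = (V : Set S) :=
  Groth.L08.Borel.cover_of_lfp π V hV

end Groth.L15.Levi

end
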