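import Groth.Agent.L15.Levi.Retract
import Groth.Agent.L15.Levi.Desc
import Groth.Agent.L20.SchDesc.Main
import Groth.Agent.L11.Magnet.AtlasRep
import Groth.Agent.L13.CGrpExt.Descend
import Groth.Agent.L25.Actions
import Groth.Agent.L20.FibreScheme

/-!
The quotient by a normal subgroup having a complement after an fpqc covering is representable by an affine scheme.
-/

set_option autoImplicit false
set_option linter.style.haveILetI false
set_option linter.unusedSectionVars false
set_option backward.isDefEq.respectTransparency.types false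
set_option maxHeartbeats 1600000
universe u

open CategoryTheory CategoryTheory.Limits AlgebraicGeometry MonoidalCategory CartesianMonoidalCategory MonObj
open Groth.L25 Groth.L14 Groth.L14.RankOne

noncomputable section

namespace Groth.L15.Levi

variable {S S' : Scheme.{u}} {π : S' ⟶ S} {P U : Over S} [GrpObj P] [GrpObj U] {u : U ⟶ P} [IsMonHom u]
  {L' : Over S'} [GrpObj L'] {l' : L' ⟶ Red.bc π P} [IsMonHom l']
  [IsIso ((l' ⊗ₘ (Over.pullback π).map u) ≫ μ)]

/-- a point of the base change corrected by a point of the normal subgroup has the same image -/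
theorem retr_translate {T : Scheme.{u}} (x₁ x₂ : T ⟶ S') (h : x₁ ≫ π = x₂ ≫ π)
    (p₀ : Over.mk (x₁ ≫ π) ⟶ P) :
    (NilAction.ofBase π (Y := Over.mk x₂)
        ((Over.homMk (𝟙 T) ((Category.id_comp _).trans h) :
            (Over.mk (x₂ ≫ π) : Over S) ⟶ Over.mk (x₁ ≫ π)) ≫
          NilAction.toBase π (Y := Over.mk x₁)
            (NilAction.ofBase π (Y := Over.mk x₁) p₀ ≫ retr l' ((Over.pullback π).map u) ≫ l'))) ≫
        retr l' ((Over.pullback π).map u) =
      NilAction.ofBase π (Y := Over.mk x₂)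
        ((Over.homMk (𝟙 T) ((Category.id_comp _).trans h) :
            (Over.mk (x₂ ≫ π) : Over S) ⟶ Over.mk (x₁ ≫ π)) ≫ p₀) ≫ retr l' ((Over.pullback π).map u) := by
  haveI hu : IsMonHom ((Over.pullback π).map u) := Groth.L25.MonoClosed.isMonHom_pullbackMap _ _
  let u' := (Over.pullback π).map u
  let z : Over.mk x₁ ⟶ Red.bc π P := NilAction.ofBase π (Y := Over.mk x₁) p₀
  let e : (Over.mk (x₂ ≫ π) : Over S) ⟶ Over.mk (x₁ ≫ π) :=
    Over.homMk (𝟙 T) ((Category.id_comp _).trans h)
  have hz : z ≫ retr l' u' ≫ l' = z * ((z ≫ retrU l' u')⁻¹ ≫ u') := by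
    conv_rhs => arg 1; rw [← retr_decomp l' u' z]
    rw [GrpObj.inv_comp, Category.assoc, _root_.mul_assoc, mul_inv_cancel, _root_.mul_one]
  show NilAction.ofBase π (Y := Over.mk x₂) (e ≫ NilAction.toBase π (z ≫ retr l' u' ≫ l')) ≫ retr l' u' = _
  rw [hz, NilAction.toBase_mul, toBase_comp_map, MonObj.comp_mul, Groth.L25.Locus.ofBase_mul, ← Category.assoc e,
    ← NilAction.ofBase_comp π (Y := Over.mk x₂) (e ≫ NilAction.toBase π (z ≫ retrU l' u')⁻¹) u, retr_mul_right,
    NilAction.toBase_ofBase]

variable [Flat π] [Surjective π]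
  (hcov : ∀ V : S.Opens, IsAffineOpen V → ∃ W : S'.Opens, IsCompact (W : Set S') ∧ π.base '' (W : Set S') = (V : Set S))

include hcov in
/-- **Descent of the quotient.** -/
theorem exists_quotient_desc [IsAffineHom L'.hom] [Smooth L'.hom] [Smooth P.hom] [Smooth U.hom] [IsClosedImmersion u.left]
    (hn : AlgGrp.IsNormalHom u) :
    ∃ (Q : Over S) (q : P ⟶ Q), RedSub.IsQuotient u q ∧ IsAffineHom Q.hom ∧ Smooth Q.hom ∧
      ∃ e : L' ≅ Red.bc π Q, (Over.pullback π).map q = retr l' ((Over.pullback π).map u) ≫ e.hom := by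
  haveI hu : IsMonHom ((Over.pullback π).map u) := Groth.L25.MonoClosed.isMonHom_pullbackMap _ _
  let u' := (Over.pullback π).map u
  let r : Red.bc π P ⟶ L' := retr l' u'
  haveI : IsMonHom r := isMonHom_retr l' u' (isNormalHom_bc π hn)
  haveI : Groth.L20.SchDesc.Cov π := Groth.L25.Descent.cov_of_cover π hcov
  let f : L'.left ⟶ S' := L'.hom
  -- the underlying point of the group
  let a : ∀ {T : Scheme.{u}} (v : T ⟶ L'.left), (Over.mk ((v ≫ L'.hom) ≫ π) : Over S) ⟶ P := fun {T} v =>
    NilAction.toBase π (Y := Over.mk (v ≫ L'.hom)) ((Over.homMk v rfl : Over.mk (v ≫ L'.hom) ⟶ L') ≫ l')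
  let act : ∀ {T : Scheme.{u}} (v : T ⟶ L'.left) (x : T ⟶ S'), v ≫ f ≫ π = x ≫ π → (T ⟶ L'.left) :=
    fun {T} v x h => (NilAction.ofBase π (Y := Over.mk x)
      ((Over.homMk (𝟙 T) ((Category.id_comp _).trans ((Category.assoc v L'.hom π).trans h)) :
        (Over.mk (x ≫ π) : Over S) ⟶ Over.mk ((v ≫ L'.hom) ≫ π)) ≫ a v) ≫ r).left
  have hact : ∀ {T : Scheme.{u}} (v : T ⟶ L'.left) (x : T ⟶ S') (h : v ≫ f ≫ π = x ≫ π),
      act v x h = pullback.lift (v ≫ l'.left ≫ pullback.fst P.hom π) x (by
        rw [Category.assoc, Category.assoc, pullback.condition, ← h]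
        simp only [f, ← Over.w l']
        simp only [Category.assoc]
        rfl) ≫ r.left := by
    intro T v x h
    show pullback.lift _ _ _ ≫ r.left = _
    congr 1
  -- key: independence of the intermediate point
  have key : ∀ {T : Scheme.{u}} (p₀ : T ⟶ P.left) (x₁ x₂ : T ⟶ S') (h₁ : p₀ ≫ P.hom = x₁ ≫ π)
      (h₂ : p₀ ≫ P.hom = x₂ ≫ π) (h' : (pullback.lift p₀ x₁ h₁ ≫ r.left) ≫ f ≫ π = x₂ ≫ π),
      act (pullback.lift p₀ x₁ h₁ ≫ r.left) x₂ h' = pullback.lift p₀ x₂ h₂ ≫ r.left := by
    intro T p₀ x₁ x₂ h₁ h₂ h'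
    rw [hact _ _ h']
    have h12 : x₁ ≫ π = x₂ ≫ π := h₁.symm.trans h₂
    have e := congrArg CommaMorphism.left (retr_translate (l' := l') (u := u) x₁ x₂ h12 (Over.homMk p₀ h₁))
    refine Eq.trans ?_ (e.trans ?_)
    · show _ = pullback.lift _ _ _ ≫ r.left
      congr 1
    · show pullback.lift _ _ _ ≫ r.left = _
      congr 1
  have hlr : ∀ {T : Scheme.{u}} (v : T ⟶ L'.left), v ≫ l'.left ≫ r.left = v := fun {T} v => by
    rw [← Over.comp_left, show l' ≫ r = 𝟙 _ from l_retr l' u', Over.id_left, Category.comp_id]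
  let D : Groth.L20.SchDesc.Pre π f :=
    { act := act
      hom := fun v x h => by
        rw [hact v x h, Category.assoc]
        show pullback.lift _ _ _ ≫ r.left ≫ L'.hom = x
        rw [Over.w r]
        exact pullback.lift_snd _ _ _
      natural := fun g v x h h' => by
        rw [hact (g ≫ v) (g ≫ x) h', hact v x h]
        refine (congrArg (· ≫ r.left) ?_).trans (Category.assoc _ _ _)
        apply pullback.hom_ext <;> simp [pullback.lift_fst, pullback.lift_snd]
      self := fun v h => by
        rw [hact v (v ≫ f) h]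
        refine Eq.trans ?_ (hlr v)
        refine (congrArg (· ≫ r.left) ?_).trans (Category.assoc _ _ _)
        apply pullback.hom_ext
        · simp only [pullback.lift_fst, Category.assoc]
        · simp only [pullback.lift_snd, Category.assoc]
          exact congrArg (v ≫ ·) (Over.w l').symm
      comp := fun v x y h h' h'' => by
        have e := hact v x h
        rw [hact v y h'']
        have h₁ : (v ≫ l'.left ≫ pullback.fst P.hom π) ≫ P.hom = x ≫ π := by
          rw [← h, Category.assoc, Category.assoc, pullback.condition, ← Category.assoc l'.left]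
          exact congrArg (fun z => v ≫ z ≫ π) (Over.w l')
        have h₂ : (v ≫ l'.left ≫ pullback.fst P.hom π) ≫ P.hom = y ≫ π := by
          rw [← h'', Category.assoc, Category.assoc, pullback.condition, ← Category.assoc l'.left]
          exact congrArg (fun z => v ≫ z ≫ π) (Over.w l')
        have h₃ : (pullback.lift _ x h₁ ≫ r.left) ≫ f ≫ π = y ≫ π := e ▸ h'
        have := key _ x y h₁ h₂ h₃
        rw [← this]
        congr 1 }
  obtain ⟨d⟩ := Groth.L20.SchDesc.effective_of_isIndQuasiAffineHom
    (Groth.L11.Magnet.isIndQuasiAffineHom_of_isAffineHom f) D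
  let Q : Over S := Over.mk d.a
  have sq : IsPullback d.q L'.hom d.a π := d.isPullback.flip
  let e : L' ≅ Red.bc π Q := Over.isoMk sq.isoPullback sq.isoPullback_hom_snd
  have hefst : e.hom.left ≫ pullback.fst d.a π = d.q := sq.isoPullback_hom_fst
  -- the quotient morphism
  haveI : EffectiveEpi (pullback.fst P.hom π) :=
    Groth.L25.Descent.effectiveEpi_pullback_fst P.hom π hcov
  let PS : Over S := Over.mk (pullback.fst P.hom π ≫ P.hom)
  let p' : PS ⟶ P := Over.homMk (pullback.fst P.hom π) rfl
  haveI : EffectiveEpi p'.left := ‹EffectiveEpi (pullback.fst P.hom π)›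
  let q₁ : PS ⟶ Q := Over.homMk (r.left ≫ d.q) (by
    show (r.left ≫ d.q) ≫ d.a = pullback.fst P.hom π ≫ P.hom
    rw [Category.assoc, sq.w, pullback.condition, ← Category.assoc]
    exact congrArg (· ≫ π) (Over.w r))
  obtain ⟨q, hq, -⟩ := Groth.L25.Actions.existsUnique_desc p' q₁ fun Z g₁ g₂ hg => by
    apply Over.OverMorphism.ext
    show g₁.left ≫ r.left ≫ d.q = g₂.left ≫ r.left ≫ d.q
    have hg' : g₁.left ≫ pullback.fst P.hom π = g₂.left ≫ pullback.fst P.hom π :=
      congrArg CommaMorphism.left hg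
    let p₀ := g₁.left ≫ pullback.fst P.hom π
    let x₁ := g₁.left ≫ pullback.snd P.hom π
    let x₂ := g₂.left ≫ pullback.snd P.hom π
    have h₁ : p₀ ≫ P.hom = x₁ ≫ π := by simp only [p₀, x₁, Category.assoc, pullback.condition]
    have h₂ : p₀ ≫ P.hom = x₂ ≫ π := by simp only [p₀, x₂, hg', Category.assoc, pullback.condition]
    have e₁ : g₁.left = pullback.lift p₀ x₁ h₁ :=
      pullback.hom_ext (pullback.lift_fst _ _ _).symm (pullback.lift_snd _ _ _).symm
    have e₂ : g₂.left = pullback.lift p₀ x₂ h₂ :=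
      pullback.hom_ext (hg'.symm.trans (pullback.lift_fst _ _ _).symm) (pullback.lift_snd _ _ _).symm
    have h' : (pullback.lift p₀ x₁ h₁ ≫ r.left) ≫ f ≫ π = x₂ ≫ π := by
      rw [Category.assoc, ← Category.assoc r.left]
      show pullback.lift p₀ x₁ h₁ ≫ (r.left ≫ L'.hom) ≫ π = _
      rw [Over.w r]
      show pullback.lift p₀ x₁ h₁ ≫ pullback.snd P.hom π ≫ π = _
      rw [pullback.lift_snd_assoc, ← h₁, h₂]
    rw [e₁, e₂, ← Category.assoc, ← Category.assoc, ← key p₀ x₁ x₂ h₁ h₂ h', d.comm _ _ h']
  have hq' : (Over.pullback π).map q = r ≫ e.hom := by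
    apply Over.OverMorphism.ext
    apply pullback.hom_ext
    · show ((Over.pullback π).map q).left ≫ pullback.fst d.a π = (r.left ≫ e.hom.left) ≫ pullback.fst d.a π
      rw [Category.assoc, hefst]
      exact (pullback.lift_fst _ _ _).trans (congrArg CommaMorphism.left hq)
    · exact (Over.w ((Over.pullback π).map q)).trans (Over.w (r ≫ e.hom)).symm
  haveI : IsIso e.hom.left := inferInstanceAs (IsIso ((Over.forget _).map e.hom))
  haveI : IsIso e.inv.left := inferInstanceAs (IsIso ((Over.forget _).map e.inv))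
  have hlocal : ∀ {Q' : MorphismProperty Scheme.{u}} [IsZariskiLocalAtTarget Q'] [Q'.IsStableUnderBaseChange]
      [Q'.DescendsAlong (@Surjective ⊓ @Flat ⊓ @QuasiCompact)], Q' (Red.bc π Q).hom → Q' Q.hom := by
    intro Q' _ _ _ h
    refine Groth.L25.FpqcLocal.of_fpqc (P := Q') Q.hom (𝟙 S) π hcov fun x => ⟨⊤, trivial,
      Groth.L25.FpqcLocal.bc_comp Q.hom (pullback.snd (𝟙 S) ((⊤ : Scheme.Opens _).ι ≫ π) ≫ (⊤ : Scheme.Opens _).ι) π
        (pullback.fst (𝟙 S) ((⊤ : Scheme.Opens _).ι ≫ π))
        (by rw [Category.assoc, ← pullback.condition, Category.comp_id]) h⟩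
  have hwe : (Red.bc π Q).hom = e.inv.left ≫ L'.hom := (Over.w e.inv).symm
  haveI hQa : IsAffineHom Q.hom := hlocal (Q' := @IsAffineHom) (by rw [hwe]; infer_instance)
  haveI hQs : Smooth Q.hom := hlocal (Q' := @Smooth) (by rw [hwe]; infer_instance)
  -- properties of the quotient morphism
  haveI hrs : Surjective r.left := ⟨fun z => ⟨l'.left z, by
    rw [← Scheme.Hom.comp_apply, ← Over.comp_left, show l' ≫ r = 𝟙 _ from l_retr l' u']; rfl⟩⟩
  haveI hqs : Surjective q.left := by
    haveI : Surjective d.q := by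
      rw [← hefst]
      haveI : Surjective (pullback.fst d.a π) := MorphismProperty.pullback_fst (P := @Surjective) _ _ ‹_›
      infer_instance
    haveI : Surjective (pullback.fst P.hom π ≫ q.left) := by
      rw [show pullback.fst P.hom π ≫ q.left = r.left ≫ d.q from congrArg CommaMorphism.left hq]
      infer_instance
    exact Surjective.of_comp (pullback.fst P.hom π) q.left
  haveI hqf : Flat q.left := by
    haveI : Flat r.left := by
      haveI : IsIso (inv ((l' ⊗ₘ u') ≫ μ)).left := inferInstanceAs (IsIso ((Over.forget _).map _))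
      haveI : Flat (Red.bc π U).hom := by
        haveI : Smooth (Red.bc π U).hom := MorphismProperty.pullback_snd (P := @Smooth) _ _ ‹Smooth U.hom›
        infer_instance
      haveI : Flat (fst L' (Red.bc π U)).left := MorphismProperty.pullback_fst (P := @Flat) _ _ inferInstance
      show Flat ((inv ((l' ⊗ₘ u') ≫ μ) ≫ fst L' (Red.bc π U)).left)
      rw [Over.comp_left]
      infer_instance
    have hm : Flat ((Over.pullback π).map q).left := by rw [hq', Over.comp_left]; infer_instance
    refine Groth.L25.FpqcLocal.of_fpqc (P := @Flat) q.left Q.hom π hcov fun x => ⟨⊤, trivial, ?_⟩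
    refine Groth.L25.FpqcLocal.bc_comp q.left
      (pullback.map Q.hom ((⊤ : S'.Opens).ι ≫ π) Q.hom π (𝟙 _) (⊤ : S'.Opens).ι (𝟙 _) (by simp) (by simp))
      (pullback.fst Q.hom π) (pullback.fst Q.hom ((⊤ : S'.Opens).ι ≫ π))
      ((pullback.lift_fst _ _ _).trans (Category.comp_id _)) ?_
    have hsq : IsPullback (pullback.fst P.hom π) ((Over.pullback π).map q).left q.left (pullback.fst Q.hom π) := by
      refine IsPullback.of_bot ?_ (pullback.lift_fst _ _ _).symm (IsPullback.of_hasPullback Q.hom π)
      rw [show ((Over.pullback π).map q).left ≫ pullback.snd Q.hom π = pullback.snd P.hom π from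
        pullback.lift_snd _ _ _, Over.w q]
      exact IsPullback.of_hasPullback P.hom π
    rw [← hsq.isoPullback_inv_snd]
    exact (MorphismProperty.cancel_left_of_respectsIso _ _ _).2 hm
  haveI hqp : LocallyOfFinitePresentation q.left := by
    haveI : LocallyOfFinitePresentation (q.left ≫ Q.hom) := by rw [Over.w q]; infer_instance
    exact Groth.L20.locallyOfFinitePresentation_of_comp q.left Q.hom
  refine ⟨Q, q, ⟨hqs, hqf, hqp, ?_⟩, hQa, hQs, e, hq'⟩
  haveI : Mono u := Groth.L08.mono_of_closedImmersion u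
  have hw : fst P U ≫ q = ((P ◁ u) ≫ μ[P]) ≫ q := by
    have e1 : (P ◁ u) ≫ μ[P] = fst P U * (snd P U ≫ u) := by
      rw [MonObj.mul_eq_mul, MonObj.comp_mul, CartesianMonoidalCategory.whiskerLeft_fst,
        CartesianMonoidalCategory.whiskerLeft_snd]
    rw [e1]
    -- equality of morphisms is checked after the covering
    haveI : EffectiveEpi (pullback.fst (P ⊗ U).hom π) :=
      Groth.L25.Descent.effectiveEpi_pullback_fst _ π hcov
    apply Over.OverMorphism.ext
    rw [← cancel_epi (pullback.fst (P ⊗ U).hom π)]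
    have e2 : (Over.pullback π).map (fst P U ≫ q) = (Over.pullback π).map ((fst P U * (snd P U ≫ u)) ≫ q) := by
      rw [Functor.map_comp, Functor.map_comp, hq',
        show (Over.pullback π).map (fst P U * (snd P U ≫ u)) =
          (Over.pullback π).map (fst P U) * (Over.pullback π).map (snd P U ≫ u) from
          map_mul (Functor.homMonoidHom (Over.pullback π)) _ _, Functor.map_comp, ← Category.assoc, ← Category.assoc,
        retr_mul_right]
    have e3 : ((Over.pullback π).map (fst P U ≫ q)).left ≫ pullback.fst Q.hom π =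
        ((Over.pullback π).map ((fst P U * (snd P U ≫ u)) ≫ q)).left ≫ pullback.fst Q.hom π := by rw [e2]
    have hm : ∀ {X : Over S} (g : X ⟶ Q), ((Over.pullback π).map g).left ≫ pullback.fst Q.hom π =
        pullback.fst X.hom π ≫ g.left := fun g => pullback.lift_fst _ _ _
    rw [hm, hm] at e3
    exact e3
  refine IsPullback.mk ⟨hw⟩ ⟨PullbackCone.IsLimit.mk _ (fun s => ?_) ?_ ?_ ?_⟩
  · have hex : ∃ n : s.pt ⟶ U, n ≫ u = s.fst⁻¹ * s.snd := by
      haveI : IsImmersion u.left := inferInstance
      refine Groth.L15.TypeRLe.exists_hom_of_local _ u fun x => ?_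
      obtain ⟨y, hy⟩ := π.surjective x
      refine ⟨S', π, inferInstance, ⟨y, hy⟩, exists_of_retr_eq l' u' _ ?_⟩
      haveI : Mono e.hom := inferInstance
      have ec : (Over.pullback π).map s.fst ≫ r = (Over.pullback π).map s.snd ≫ r := by
        rw [← cancel_mono e.hom, Category.assoc, Category.assoc, ← hq', ← Functor.map_comp, ← Functor.map_comp,
          s.condition]
      show (Over.pullback π).map (s.fst⁻¹ * s.snd) ≫ r = 1
      rw [show (Over.pullback π).map (s.fst⁻¹ * s.snd) =
          (Over.pullback π).map (s.fst⁻¹) * (Over.pullback π).map s.snd from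
          map_mul (Functor.homMonoidHom (Over.pullback π)) _ _,
        show (Over.pullback π).map (s.fst⁻¹) = ((Over.pullback π).map s.fst)⁻¹ from
          map_inv (Functor.homMonoidHom (Over.pullback π)) _, MonObj.mul_comp, GrpObj.inv_comp, ec, inv_mul_cancel]
    exact lift s.fst hex.choose
  · intro s
    exact lift_fst _ _
  · intro s
    show lift _ _ ≫ (P ◁ u) ≫ μ[P] = _
    rw [lift_whiskerLeft_assoc, ← Hom.mul_def]
    generalize_proofs hh
    rw [hh.choose_spec, mul_inv_cancel_left]
  · intro s m h₁ h₂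
    apply CartesianMonoidalCategory.hom_ext
    · rw [lift_fst]; exact h₁
    · rw [lift_snd, ← cancel_mono u]
      generalize_proofs hh
      rw [hh.choose_spec, ← h₁, ← h₂, MonObj.mul_eq_mul, MonObj.comp_mul, MonObj.comp_mul,
        CartesianMonoidalCategory.whiskerLeft_fst, CartesianMonoidalCategory.whiskerLeft_snd,
        inv_mul_cancel_left, Category.assoc]

end Groth.L15.Levi

end
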