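import Groth.Agent.L15.Levi.Props
import Groth.Agent.L14.Splitting.Fibre

/-!
An affine smooth group is reductive if it is so after a covering family of base changes.
-/

set_option autoImplicit false
set_option linter.style.haveILetI false
set_option linter.unusedSectionVars false
set_option backward.isDefEq.respectTransparency.types false
set_option maxHeartbeats 1000000
universe u

open CategoryTheory CategoryTheory.Limits AlgebraicGeometry MonoidalCategory CartesianMonoidalCategory MonObj
open Groth.L25 Groth.L14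

noncomputable section

namespace Groth.L15.Levi

/-- **Reductivity is local for any covering of the base.** -/
theorem isReductive_of_local {S : Scheme.{u}} (L : Over S) [GrpObj L] (ha : IsAffineHom L.hom) (hs : Smooth L.hom)
    (h : ∀ s : S, ∃ (V : Scheme.{u}) (f : V ⟶ S), s ∈ Set.range f.base ∧ Red.IsReductive (Red.bc f L)) :
    Red.IsReductive L := by
  refine ⟨ha, hs, fun s => ?_⟩
  haveI := ha; haveI := hs
  haveI : IsAffineHom (Red.geomFibre s L).hom := MorphismProperty.pullback_snd (P := @IsAffineHom) _ _ ha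
  haveI hsm : Smooth (Red.geomFibre s L).hom := inferInstanceAs (Smooth (pullback.snd L.hom (Red.geomPt s)))
  haveI haff : IsAffine (Red.geomFibre s L).left := isAffine_of_isAffineHom (Red.geomFibre s L).hom
  obtain ⟨V, f, ⟨v, hv⟩, hr⟩ := h s
  have hv' : f v = s := hv
  subst hv'
  obtain ⟨θ, hθ⟩ := Groth.L08.Borel.exists_geomPt_map f v
  obtain ⟨-, -, hc, hu⟩ := hr.2.2 v
  let e := Groth.L08.Borel.fibreIso f θ hθ L
  haveI := (Groth.L08.Borel.isMonHom_fibreIso f θ hθ L).1
  haveI := (Groth.L08.Borel.isMonHom_fibreIso f θ hθ L).2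
  haveI : IsIso e.hom.left := inferInstanceAs (IsIso ((Over.forget _).map e.hom))
  haveI : IsIso e.inv.left := inferInstanceAs (IsIso ((Over.forget _).map e.inv))
  haveI := hc
  haveI : ConnectedSpace ↥(pullback (Red.geomFibre (f v) L).hom θ) :=
    e.hom.left.surjective.connectedSpace e.hom.left.continuous
  haveI : Surjective θ := ⟨fun z => ⟨IsLocalRing.closedPoint _, Subsingleton.elim (α := PrimeSpectrum _) _ _⟩⟩
  haveI : Surjective (pullback.fst (Red.geomFibre (f v) L).hom θ) :=
    MorphismProperty.pullback_fst (P := @Surjective) _ _ ‹_›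
  refine ⟨haff, hsm, (pullback.fst (Red.geomFibre (f v) L).hom θ).surjective.connectedSpace
      (pullback.fst (Red.geomFibre (f v) L).hom θ).continuous, fun U _ i _ hcl hsU hcU hn hno => ?_⟩
  haveI := hcl; haveI := hsU; haveI := hcU
  haveI : IsAffineHom U.hom := by rw [← Over.w i]; infer_instance
  haveI : IsAffine U.left := isAffine_of_isAffineHom U.hom
  let Fθ := Over.pullback θ
  haveI : IsMonHom (Fθ.map i) := Groth.L25.MonoClosed.isMonHom_pullbackMap _ _
  haveI : IsClosedImmersion (Fθ.map i).left := MorphismProperty.overPullbackMap (P := @IsClosedImmersion) θ i hcl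
  let i' : Red.bc θ U ⟶ Red.geomFibre v (Red.bc f L) := Fθ.map i ≫ e.inv
  haveI : IsMonHom i' := inferInstanceAs (IsMonHom (Fθ.map i ≫ e.inv))
  have hn' : AlgGrp.IsNormalHom i' := fun T g n => by
    obtain ⟨n', hn'⟩ := isNormalHom_bc θ hn T (g ≫ e.hom) n
    refine ⟨n', ?_⟩
    have := congrArg (· ≫ e.inv) hn'
    simp only [MonObj.mul_comp, GrpObj.inv_comp, Category.assoc, Iso.hom_inv_id, Category.comp_id] at this
    exact this
  haveI : ConnectedSpace (Red.bc θ U).left := Groth.L20.Unirat.connectedSpace_bc_field θ U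
  have ht : Red.IsTrivialGrp (Red.bc θ U) := hu (Red.bc θ U) i'
    (inferInstanceAs (IsClosedImmersion ((Fθ.map i).left ≫ e.inv.left)))
    (MorphismProperty.pullback_snd (P := @Smooth) _ _ hsU) inferInstance hn'
    ((Groth.L19.AffSpec.noSubtorus_bc_iff θ U).2 hno)
  haveI : IsIso (Red.bc θ U).hom := ht
  refine Groth.L19.AffSpec.isTrivialGrp_of_id (Groth.L19.SpecSub.bc_faithful θ ?_)
  exact Over.OverMorphism.ext ((cancel_mono (Red.bc θ U).hom).1
    ((Over.w (Fθ.map (𝟙 U))).trans (Over.w (Fθ.map (1 : U ⟶ U))).symm))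

end Groth.L15.Levi

end
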