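import Groth.Agent.L15.Levi.Radical
import Groth.Agent.L15.Levi.QuotDesc
import Groth.Agent.L15.Levi.ReductiveLocal
import Groth.Agent.S5236

/-!
The quotient of a parabolic subgroup by its unipotent radical is a reductive group.
-/

set_option autoImplicit false
set_option linter.style.haveILetI false
set_option linter.unusedSectionVars false
set_option backward.isDefEq.respectTransparency.types false
set_option maxHeartbeats 1600000
universe u

open CategoryTheory CategoryTheory.Limits AlgebraicGeometry MonoidalCategory CartesianMonoidalCategory MonObj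
open Groth.L25 Groth.L14

noncomputable section

namespace Groth.L15.Levi

variable {S : Scheme.{u}}

/-- A reductive complement exists etale-locally at the point. -/
def LocalLevi {P U : Over S} [GrpObj P] [GrpObj U] (u : U ⟶ P) (s : S) : Prop :=
  ∃ (V : Scheme.{u}) (f : V ⟶ S) (_ : Etale f) (v : V), f v = s ∧
    ∃ (L : Over V) (_ : GrpObj L) (l : L ⟶ Red.bc f P), IsMonHom l ∧ IsClosedImmersion l.left ∧
      Red.IsReductive L ∧ IsIso ((l ⊗ₘ (Over.pullback f).map u) ≫ μ)

theorem localLevi_bc {P U : Over S} [GrpObj P] [GrpObj U] (u : U ⟶ P) {V : Scheme.{u}} (f : V ⟶ S) [Etale f] {v : V}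
    (h : LocalLevi ((Over.pullback f).map u) v) : LocalLevi u (f v) := by
  obtain ⟨W, g, hg, w, rfl, L, gL, l, hl, hcl, hL, hθ⟩ := h
  haveI := hg; haveI := hl; haveI := hcl; haveI := hθ
  let bP := ActBC.bcCompIso g f P (rfl : g ≫ f = g ≫ f)
  let bU := ActBC.bcCompIso g f U (rfl : g ≫ f = g ≫ f)
  haveI : IsMonHom bP.hom := ActBC.bcCompIso_isMonHom (G := P) _ _ _
  haveI : IsIso bP.hom.left := inferInstanceAs (IsIso ((Over.forget _).map bP.hom))
  exact ⟨W, g ≫ f, inferInstance, w, Scheme.Hom.comp_apply _ _ _, L, gL, l ≫ bP.hom, inferInstance,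
    by rw [Over.comp_left]; infer_instance, hL,
    isIso_theta_congr l ((Over.pullback g).map ((Over.pullback f).map u)) _ _ (Iso.refl L) bU bP
      (Category.id_comp _) (ActBC.bcCompIso_hom_naturality g f rfl u).symm⟩

variable {G P U : Over S} [GrpObj G] [GrpObj P] [GrpObj U]

/-- Reductive complements of the radical exist etale-locally. -/
theorem localLevi (hG : Red.IsReductive G) (p : P ⟶ G) (hP : Red.IsParabolic p) (u : U ⟶ P) [IsMonHom u]
    (hu : IsRadBC u) (s : S) : LocalLevi u s := by
  haveI := hP.1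
  obtain ⟨V₁, f₁, hf₁, ⟨v₁, hv₁⟩, T, gT, t, htm, hT⟩ :=
    Groth.L15.TypeRConj.exists_maxTorus hG p (isTypeR_parabolic hG hP) s
  haveI := hf₁; haveI := htm
  have hG₁ := Groth.L14.Splitting.isReductive_bc hG f₁
  have hP₁ := isParabolic_bc hG hP f₁
  haveI : IsMonHom ((Over.pullback f₁).map u) := Groth.L25.MonoClosed.isMonHom_pullbackMap _ _
  obtain ⟨V, f, hf, W, w, hw, D, t', e, R', hm, -, ht', hR⟩ :=
    exists_local_datum hG₁ ((Over.pullback f₁).map p) hP₁ t hT v₁
  haveI := hf; haveI := hm
  haveI : Nonempty W.toScheme := ⟨w⟩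
  haveI : IsMonHom ((Over.pullback f).map ((Over.pullback f₁).map u)) :=
    Groth.L25.MonoClosed.isMonHom_pullbackMap _ _
  have hP₂ := isParabolic_bc (Groth.L14.Splitting.isReductive_bc hG₁ f) (isParabolic_bc hG₁ hP₁ f) W.ι
  obtain ⟨L, gL, l, hl, tL, U₂, gU₂, u₂, -, hlcl, hL, -, hrad, hθ, -⟩ := exists_levi_split D hP₂ t' ht' hR
  haveI := hl
  obtain ⟨ε, -, hε⟩ := radical_unique (((hu.bc f₁).bc f).out W.ι) hrad
  haveI := hθ
  haveI : IsMonHom (Iso.refl (Red.bc W.ι (Red.bc f (Red.bc f₁ P)))).hom := inferInstanceAs (IsMonHom (𝟙 _))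
  have hθ' : IsIso ((l ⊗ₘ (Over.pullback W.ι).map ((Over.pullback f).map ((Over.pullback f₁).map u))) ≫ μ) :=
    isIso_theta_congr l u₂ _ _ (Iso.refl L) ε (Iso.refl _) (Category.id_comp l |>.trans (Category.comp_id l).symm)
      (hε.trans (Category.comp_id u₂).symm)
  haveI := hθ'; haveI := hlcl
  have h0 : LocalLevi ((Over.pullback W.ι).map ((Over.pullback f).map ((Over.pullback f₁).map u))) w := by
    refine ⟨_, 𝟙 _, inferInstance, w, rfl, Red.bc (𝟙 _) L, inferInstance, (Over.pullback (𝟙 _)).map l,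
      Groth.L25.MonoClosed.isMonHom_pullbackMap _ _,
      MorphismProperty.overPullbackMap (P := @IsClosedImmersion) _ l hlcl,
      Groth.L14.Splitting.isReductive_bc hL _, isIso_theta_bc l _ _⟩
  have h1 := localLevi_bc _ f (localLevi_bc _ W.ι h0)
  rw [hw] at h1
  have h2 := localLevi_bc _ f₁ h1
  rwa [show f₁ v₁ = s from hv₁] at h2

/-- **The quotient of a parabolic subgroup by its radical is a reductive group.** -/
theorem exists_quotient (hG : Red.IsReductive G) (p : P ⟶ G) (hP : Red.IsParabolic p) (u : U ⟶ P) [IsMonHom u]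
    [IsClosedImmersion u.left] [Smooth U.hom] (hu : IsRadBC u) :
    ∃ (L : Over S) (_ : GrpObj L) (q : P ⟶ L), IsMonHom q ∧ RedSub.IsQuotient u q ∧ Red.IsReductive L := by
  classical
  haveI := hP.2.1; haveI := hG.1; haveI := hP.2.2.1
  haveI : IsAffineHom P.hom := by rw [← Over.w p]; infer_instance
  choose V f hf v hv L gL l hlm hlc hLr hθ using localLevi hG p hP u hu
  let π : (∐ V) ⟶ S := Sigma.desc f
  haveI : Etale π := IsZariskiLocalAtSource.sigmaDesc (P := @Etale) hf
  haveI : Surjective π := ⟨fun x => ⟨Sigma.ι V x (v x), by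
    rw [← Scheme.Hom.comp_apply, Sigma.ι_desc]; exact hv x⟩⟩
  letI : ∀ i, GrpObj (L i) := gL
  let ψ : ∀ i, Red.bc (Sigma.ι V i) (Red.bc π P) ≅ Red.bc (f i) P := fun i =>
    ActBC.bcCompIso (Sigma.ι V i) π P (Sigma.ι_desc f i)
  haveI hψ : ∀ i, IsMonHom (ψ i).hom := fun i => ActBC.bcCompIso_isMonHom (G := P) _ _ _
  haveI hψ' : ∀ i, IsMonHom (ψ i).inv := fun i => isMonHom_inv' (ψ i)
  haveI : ∀ i, IsIso (ψ i).inv.left := fun i => inferInstanceAs (IsIso ((Over.forget _).map (ψ i).inv))
  let c : ∀ i, L i ⟶ Red.bc (Sigma.ι V i) (Red.bc π P) := fun i => l i ≫ (ψ i).inv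
  have hcm : ∀ i, IsMonHom (c i) := fun i => by
    haveI : IsMonHom (l i) := hlm i
    haveI : IsMonHom (ψ i).inv := hψ' i
    exact inferInstanceAs (IsMonHom (l i ≫ (ψ i).inv))
  have hcc : ∀ i, IsClosedImmersion (c i).left := fun i => by
    haveI := hlc i
    exact inferInstanceAs (IsClosedImmersion ((l i).left ≫ (ψ i).inv.left))
  obtain ⟨L', gL', l', hl', hl'm, hLs, hLe⟩ := Groth.L08.Borel.exists_subgroup_sigma (Red.bc π P) L c hcm
    (fun i => by haveI := hcc i; exact Over.mono_of_mono_left _)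
  haveI := hl'; haveI := hl'm
  haveI : Smooth L'.hom := hLs fun i => (hLr i).2.1
  haveI : IsClosedImmersion l'.left := of_sigma @IsClosedImmersion l' fun i => by
    obtain ⟨e, -, he⟩ := hLe i
    haveI := hcc i
    haveI : IsIso e.hom.left := inferInstanceAs (IsIso ((Over.forget _).map e.hom))
    show IsClosedImmersion _
    rw [← he, Over.comp_left]; infer_instance
  haveI : IsAffineHom (Red.bc π P).hom := MorphismProperty.pullback_snd (P := @IsAffineHom) _ _ ‹_›
  haveI : IsAffineHom L'.hom := by rw [← Over.w l']; infer_instance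
  haveI : IsIso ((l' ⊗ₘ (Over.pullback π).map u) ≫ μ) := by
    refine @isIso_of_reflects_iso _ _ _ _ _ _ _ (Over.forget _) ?_ _
    show MorphismProperty.isomorphisms Scheme.{u} _
    refine of_sigma (MorphismProperty.isomorphisms Scheme.{u})
      ((l' ⊗ₘ (Over.pullback π).map u) ≫ μ) fun i => ?_
    obtain ⟨e, he', he⟩ := hLe i
    haveI := hlm i; haveI := hθ i
    haveI : IsMonHom e.symm.hom := isMonHom_inv' e
    haveI : IsMonHom (ψ i).symm.hom := hψ' i
    have h := isIso_theta_congr (l i) ((Over.pullback (f i)).map u) ((Over.pullback (Sigma.ι V i)).map l')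
      ((Over.pullback (Sigma.ι V i)).map ((Over.pullback π).map u)) e.symm
      (ActBC.bcCompIso (Sigma.ι V i) π U (Sigma.ι_desc f i)).symm (ψ i).symm
      (show e.inv ≫ _ = l i ≫ (ψ i).inv by rw [← he, Iso.inv_hom_id_assoc]) (by
      show (ActBC.bcCompIso (Sigma.ι V i) π U (Sigma.ι_desc f i)).inv ≫ _ = _ ≫ (ψ i).inv
      rw [Iso.inv_comp_eq, ← Category.assoc, Iso.eq_comp_inv]
      exact ActBC.bcCompIso_hom_naturality _ _ (Sigma.ι_desc f i) u)
    haveI : IsIso ((Over.pullback (Sigma.ι V i)).map ((l' ⊗ₘ (Over.pullback π).map u) ≫ μ)) :=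
      isIso_theta_of_bc (Sigma.ι V i) l' ((Over.pullback π).map u) h
    exact inferInstanceAs (IsIso ((Over.forget (V i)).map
      ((Over.pullback (Sigma.ι V i)).map ((l' ⊗ₘ (Over.pullback π).map u) ≫ μ))))
  have hn : AlgGrp.IsNormalHom u := hu.radical.2.2.1
  obtain ⟨Q, q, hq, hQa, hQs, e, -⟩ := exists_quotient_desc (l' := l') (u := u) (fun W hW => cover_of_etale W hW) hn
  haveI : Mono u := Groth.L08.mono_of_closedImmersion u
  obtain ⟨gQ, hgQ, -⟩ := Groth.Agent.S5236.result u hn q hq
  letI := gQ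
  haveI := hgQ
  refine ⟨Q, gQ, q, hgQ, hq, isReductive_of_local Q hQa hQs fun s => ?_⟩
  refine ⟨V s, f s, ⟨v s, hv s⟩, ?_⟩
  haveI := hlm s; haveI := hθ s
  haveI hqs : IsMonHom ((Over.pullback (f s)).map q) := Groth.L25.MonoClosed.isMonHom_pullbackMap _ _
  let a : L s ⟶ Red.bc (f s) Q := l s ≫ (Over.pullback (f s)).map q
  haveI : IsMonHom a := inferInstanceAs (IsMonHom (l s ≫ (Over.pullback (f s)).map q))
  -- the composite is an isomorphism, being injective on points and having a section after the covering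
  have hker : fst P U ≫ q = ((P ◁ u) ≫ μ[P]) ≫ q := hq.2.2.2.w
  have hinv : ∀ {X : Over S} (x : X ⟶ P) (n : X ⟶ U), (x * (n ≫ u)) ≫ q = x ≫ q := fun x n => by
    have := congrArg (lift x n ≫ ·) hker
    simp only [← Category.assoc, lift_whiskerLeft, lift_fst] at this
    rw [Hom.mul_def]
    exact this.symm
  haveI : IsIso a := by
    haveI : IsMonHom ((Over.pullback (f s)).map u) := Groth.L25.MonoClosed.isMonHom_pullbackMap _ _
    let r := retr (l s) ((Over.pullback (f s)).map u)
    have h1 : r ≫ a = (Over.pullback (f s)).map q := by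
      refine Luna.SemiRank.toBase_inj (f s) ?_
      have hd := retr_decomp (l s) ((Over.pullback (f s)).map u) (𝟙 (Red.bc (f s) P))
      rw [Category.id_comp, Category.id_comp] at hd
      conv_rhs => rw [← Category.id_comp ((Over.pullback (f s)).map q), Groth.L14.RankOne.toBase_comp_map, ← hd,
        NilAction.toBase_mul, Groth.L14.RankOne.toBase_comp_map, hinv]
      show NilAction.toBase (f s) ((r ≫ l s) ≫ (Over.pullback (f s)).map q) = _
      rw [Groth.L14.RankOne.toBase_comp_map]
    haveI hes : Epi ((Over.pullback (f s)).map q) := by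
      haveI : Surjective ((Over.pullback (f s)).map q).left ∧ Flat ((Over.pullback (f s)).map q).left ∧
          LocallyOfFinitePresentation ((Over.pullback (f s)).map q).left :=
        ⟨MorphismProperty.overPullbackMap (P := @Surjective) (f s) q hq.1,
          MorphismProperty.overPullbackMap (P := @Flat) (f s) q hq.2.1,
          MorphismProperty.overPullbackMap (P := @LocallyOfFinitePresentation) (f s) q hq.2.2.1⟩
      obtain ⟨h₁, h₂, h₃⟩ := this
      exact Groth.Agent.S5236.epi_fppf _
    haveI hae : Epi a := by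
      haveI : Epi (r ≫ a) := by rw [h1]; exact hes
      exact epi_of_epi r a
    obtain ⟨b, hb, -⟩ : ∃! b : Red.bc (f s) Q ⟶ L s, (Over.pullback (f s)).map q ≫ b = r := by
      haveI : Flat ((Over.pullback (f s)).map q).left := MorphismProperty.overPullbackMap (P := @Flat) (f s) q hq.2.1
      haveI : Surjective ((Over.pullback (f s)).map q).left :=
        MorphismProperty.overPullbackMap (P := @Surjective) (f s) q hq.1
      haveI : LocallyOfFinitePresentation ((Over.pullback (f s)).map q).left :=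
        MorphismProperty.overPullbackMap (P := @LocallyOfFinitePresentation) (f s) q hq.2.2.1
      haveI : EffectiveEpi ((Over.pullback (f s)).map q).left := inferInstance
      refine Groth.L25.Actions.existsUnique_desc _ r fun Z g₁ g₂ hg => ?_
      have hg' := congrArg (NilAction.toBase (f s)) hg
      rw [Groth.L14.RankOne.toBase_comp_map, Groth.L14.RankOne.toBase_comp_map] at hg'
      obtain ⟨n, h₁, h₂⟩ := hq.2.2.2.exists_lift _ _ hg'
      have hm : g₂ = g₁ * (NilAction.ofBase (f s) (n ≫ snd P U) ≫ (Over.pullback (f s)).map u) := by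
        refine Luna.SemiRank.toBase_inj (f s) ?_
        rw [NilAction.toBase_mul, Groth.L14.RankOne.toBase_comp_map, NilAction.toBase_ofBase, ← h₂, ← h₁,
          MonObj.mul_eq_mul, MonObj.comp_mul, MonObj.comp_mul, CartesianMonoidalCategory.whiskerLeft_fst,
          CartesianMonoidalCategory.whiskerLeft_snd]
        simp only [Category.assoc]
      rw [hm, retr_mul_right]
    refine ⟨b, ?_, ?_⟩
    · show (l s ≫ (Over.pullback (f s)).map q) ≫ b = _
      rw [Category.assoc, hb]
      exact l_retr (l s) _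
    · rw [← cancel_epi ((Over.pullback (f s)).map q), ← Category.assoc, hb, h1, Category.comp_id]
  haveI : IsMonHom (asIso a).hom := ‹IsMonHom a›
  exact Groth.L14.Splitting.isReductive_congr (Grp.mkIso' (asIso a)) (hLr s)

end Groth.L15.Levi

end
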