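import Groth.Agent.L15.Levi.Compl
import Groth.Agent.L15.Levi.Quot

/-!
The Levi subgroup containing a given maximal torus.
-/

set_option autoImplicit false
set_option linter.style.haveILetI false
set_option linter.unusedSectionVars false
set_option backward.isDefEq.respectTransparency.types false
set_option maxHeartbeats 1600000
universe u

open CategoryTheory CategoryTheory.Limits AlgebraicGeometry MonoidalCategory CartesianMonoidalCategory MonObj
open Groth.L25 Groth.L14 Groth.L14.RankOne Groth.L14.BorelLoc Groth.L15.TypeRLe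

noncomputable section

namespace Groth.L15.Levi

variable {S : Scheme.{u}}

theorem isClosedImmersion_of_theta {P L U : Over S} [GrpObj P] [GrpObj L] [GrpObj U] (l : L ⟶ P) (u : U ⟶ P)
    [IsMonHom u] [IsAffineHom U.hom] (h : IsIso ((l ⊗ₘ u) ≫ μ[P])) : IsClosedImmersion l.left := by
  haveI := h
  let σ : L ⟶ L ⊗ U := lift (𝟙 L) 1
  have e : σ ≫ (l ⊗ₘ u) ≫ μ[P] = l := by
    rw [lift_theta, Category.id_comp, MonObj.one_comp, _root_.mul_one]
  haveI : IsAffineHom (fst L U).left :=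
    MorphismProperty.pullback_fst (P := @IsAffineHom) _ _ ‹IsAffineHom U.hom›
  haveI : IsClosedImmersion σ.left := by
    haveI : IsClosedImmersion (σ.left ≫ (fst L U).left) := by
      rw [← Over.comp_left, lift_fst, Over.id_left]; infer_instance
    exact IsClosedImmersion.of_comp σ.left (fst L U).left
  haveI : IsIso ((l ⊗ₘ u) ≫ μ[P]).left := inferInstanceAs (IsIso ((Over.forget _).map ((l ⊗ₘ u) ≫ μ[P])))
  rw [← e, Over.comp_left]
  infer_instance

theorem IsCompl.bc {P L U : Over S} [GrpObj P] [GrpObj L] [GrpObj U] {l : L ⟶ P} {u : U ⟶ P} (h : IsCompl l u)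
    {V : Scheme.{u}} (j : V ⟶ S) : IsCompl ((Over.pullback j).map l) ((Over.pullback j).map u) := by
  haveI := h.hom; haveI := h.immersion; haveI := h.smooth; haveI := h.iso
  exact ⟨Groth.L25.MonoClosed.isMonHom_pullbackMap _ _,
    MorphismProperty.overPullbackMap (P := @IsImmersion) j l h.immersion,
    MorphismProperty.pullback_snd (P := @Smooth) _ _ h.smooth,
    fun v => Extension.isConnected_fibre_bc j L h.conn v, isIso_theta_bc l u j⟩

variable {G P U : Over S} [GrpObj G] [GrpObj P] [GrpObj U]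

/-- A Levi subgroup is a complement of every radical. -/
theorem isCompl_of_isLevi {L : Over S} [GrpObj L] {l : L ⟶ P} (hl : Par.IsLevi l) {u : U ⟶ P}
    (hu : Par.IsUnipotentRadical u) [IsAffineHom P.hom] : IsCompl l u ∧ IsClosedImmersion l.left := by
  obtain ⟨hm, -, hr, U', gU', u', hu', hθ⟩ := hl
  haveI := hm; haveI := hθ; haveI := hu'.1; haveI := hu'.2.1
  haveI : IsAffineHom U'.hom := by rw [← Over.w u']; infer_instance
  haveI := isClosedImmersion_of_theta l u' hθ
  obtain ⟨ε, -, hε⟩ := radical_unique hu' hu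
  haveI : IsMonHom (Iso.refl P).hom := inferInstanceAs (IsMonHom (𝟙 _))
  exact ⟨⟨hm, inferInstance, hr.2.1, fun s => Groth.L08.TorusWeights.isConnected_of_isReductive hr s,
    isIso_mul_of_iso l u u' ε hε hθ⟩, inferInstance⟩

variable {T : Over S} [GrpObj T]

/-- **At most one Levi subgroup contains a given maximal torus**, even among all complements of the radical. -/
theorem exists_hom_of_compl' (hG : Red.IsReductive G) (p : P ⟶ G) (hP : Red.IsParabolic p) (u : U ⟶ P) [IsMonHom u]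
    (hu : IsRadBC u) (t : T ⟶ P) [IsMonHom t] (hT : Red.IsMaximalTorus (t ≫ p)) {L L' : Over S} [GrpObj L]
    [GrpObj L'] (l : L ⟶ P) (l' : L' ⟶ P) (hl : IsCompl l u) (hl' : IsCompl l' u) (tl : T ⟶ L) (htl : tl ≫ l = t)
    (tl' : T ⟶ L') (htl' : tl' ≫ l' = t) : ∃ a : L' ⟶ L, a ≫ l = l' := by
  haveI := hl.immersion
  refine exists_hom_of_local l' l fun x => ?_
  obtain ⟨V, f, hf, W, w, hw, D, t', e, R', hm, het, ht', hR⟩ := exists_local_datum hG p hP t hT x
  haveI := hf; haveI := hm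
  haveI : Nonempty W.toScheme := ⟨w⟩
  let F := Over.pullback f
  let K := Over.pullback W.ι
  have hP₂ := isParabolic_bc (Groth.L14.Splitting.isReductive_bc hG f) (isParabolic_bc hG hP f) W.ι
  haveI : IsMonHom (F.map u) := Groth.L25.MonoClosed.isMonHom_pullbackMap _ _
  haveI : IsMonHom (K.map (F.map u)) := Groth.L25.MonoClosed.isMonHom_pullbackMap _ _
  obtain ⟨L₀, gL₀, l₀, hl₀, tL₀, U₂, gU₂, u₂, htL₀, hlcl₀, hL₀, hu₂, hrad, hθ, hspan, hsym, -⟩ :=
    exists_levi_split D hP₂ t' ht' hR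
  haveI := hl₀; haveI := hlcl₀; haveI := hL₀.2.1; haveI := hu₂; haveI := hθ
  haveI : Mono l₀ := Groth.L08.mono_of_closedImmersion l₀
  obtain ⟨ε, -, hε⟩ := radical_unique ((hu.bc f).out W.ι) hrad
  -- both complements coincide with the standard one
  have hstd : ∀ {L' : Over S} [GrpObj L'] (l' : L' ⟶ P) (tl' : T ⟶ L'), IsCompl l' u → tl' ≫ l' = t →
      ∃ a : Red.bc W.ι (Red.bc f L') ≅ L₀, a.hom ≫ l₀ = K.map (F.map l') := by
    intro L' _ l' tl' hl' htl'
    have h2 := (hl'.bc f).bc W.ι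
    haveI := h2.hom; haveI := h2.immersion; haveI := h2.iso
    haveI : IsMonHom (Iso.refl (Red.bc W.ι (Red.bc f P))).hom := inferInstanceAs (IsMonHom (𝟙 _))
    have h3 : IsCompl (K.map (F.map l')) u₂ :=
      ⟨h2.hom, h2.immersion, h2.smooth, h2.conn, isIso_mul_of_iso _ u₂ _ ε hε h2.iso⟩
    haveI : Mono (K.map (F.map l')) := Over.mono_of_mono_left _
    haveI := h3.iso
    have e1 : K.map (F.map tl') ≫ K.map (F.map l') = K.map (F.map t) := by
      rw [← K.map_comp, ← F.map_comp, htl']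
    obtain ⟨a, ha⟩ := exists_hom_of_compl D hP₂ hR l₀ tL₀ (by rw [reassoc_of% htL₀, ht']) u₂ hspan hsym
      (K.map (F.map l')) h3 (e.hom ≫ K.map (F.map tl')) (by
        rw [Category.assoc, reassoc_of% e1, reassoc_of% het, ht'])
    exact isIso_of_le hθ h3.iso a ha
  obtain ⟨a, ha⟩ := hstd l tl hl htl
  obtain ⟨a', ha'⟩ := hstd l' tl' hl' htl'
  refine ⟨_, W.ι ≫ f, inferInstance, ⟨w, by rw [Scheme.Hom.comp_apply]; exact hw⟩, ?_⟩
  have hle : Le l' l (W.ι ≫ f) := (le_bc_iff (j := f) W.ι).1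
    (le_of_hom (a'.hom ≫ a.inv) (by rw [Category.assoc, ← ha, Iso.inv_hom_id_assoc, ha']))
  exact hom_of_le hle

/-- A reductive complement containing the torus exists etale-locally at the point. -/
def LocalLeviT {P U T : Over S} [GrpObj P] [GrpObj U] (u : U ⟶ P) (t : T ⟶ P) (s : S) : Prop :=
  ∃ (V : Scheme.{u}) (f : V ⟶ S) (_ : Etale f) (v : V), f v = s ∧
    ∃ (L : Over V) (_ : GrpObj L) (l : L ⟶ Red.bc f P), IsMonHom l ∧ IsClosedImmersion l.left ∧
      Red.IsReductive L ∧ IsIso ((l ⊗ₘ (Over.pullback f).map u) ≫ μ) ∧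
        ∃ tl : Red.bc f T ⟶ L, tl ≫ l = (Over.pullback f).map t

theorem localLeviT_bc {P U T : Over S} [GrpObj P] [GrpObj U] (u : U ⟶ P) (t : T ⟶ P) {V : Scheme.{u}} (f : V ⟶ S)
    [Etale f] {v : V} (h : LocalLeviT ((Over.pullback f).map u) ((Over.pullback f).map t) v) :
    LocalLeviT u t (f v) := by
  obtain ⟨W, g, hg, w, rfl, L, gL, l, hl, hcl, hL, hθ, tl, htl⟩ := h
  haveI := hg; haveI := hl; haveI := hcl; haveI := hθ
  let bP := ActBC.bcCompIso g f P (rfl : g ≫ f = g ≫ f)
  let bU := ActBC.bcCompIso g f U (rfl : g ≫ f = g ≫ f)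
  let bT := ActBC.bcCompIso g f T (rfl : g ≫ f = g ≫ f)
  haveI : IsMonHom bP.hom := ActBC.bcCompIso_isMonHom (G := P) _ _ _
  haveI : IsIso bP.hom.left := inferInstanceAs (IsIso ((Over.forget _).map bP.hom))
  refine ⟨W, g ≫ f, inferInstance, w, Scheme.Hom.comp_apply _ _ _, L, gL, l ≫ bP.hom, inferInstance,
    by rw [Over.comp_left]; infer_instance, hL,
    isIso_theta_congr l ((Over.pullback g).map ((Over.pullback f).map u)) _ _ (Iso.refl L) bU bP
      (Category.id_comp _) (ActBC.bcCompIso_hom_naturality g f rfl u).symm, bT.inv ≫ tl, ?_⟩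
  rw [Category.assoc, reassoc_of% htl]
  show bT.inv ≫ (Over.pullback g).map ((Over.pullback f).map t) ≫ bP.hom = _
  rw [ActBC.bcCompIso_hom_naturality g f rfl t, Iso.inv_hom_id_assoc]

/-- Reductive complements containing the torus exist etale-locally. -/
theorem localLeviT (hG : Red.IsReductive G) (p : P ⟶ G) (hP : Red.IsParabolic p) (u : U ⟶ P) [IsMonHom u]
    (hu : IsRadBC u) (t : T ⟶ P) [IsMonHom t] (hT : Red.IsMaximalTorus (t ≫ p)) (s : S) : LocalLeviT u t s := by
  obtain ⟨V, f, hf, W, w, hw, D, t', e, R', hm, het, ht', hR⟩ := exists_local_datum hG p hP t hT s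
  haveI := hf; haveI := hm
  haveI : Nonempty W.toScheme := ⟨w⟩
  haveI : IsMonHom ((Over.pullback f).map u) := Groth.L25.MonoClosed.isMonHom_pullbackMap _ _
  have hP₂ := isParabolic_bc (Groth.L14.Splitting.isReductive_bc hG f) (isParabolic_bc hG hP f) W.ι
  obtain ⟨L, gL, l, hl, tL, U₂, gU₂, u₂, htL, hlcl, hL, -, hrad, hθ, -⟩ := exists_levi_split D hP₂ t' ht' hR
  haveI := hl; haveI := hθ; haveI := hlcl
  obtain ⟨ε, -, hε⟩ := radical_unique ((hu.bc f).out W.ι) hrad
  haveI := isIso_mul_of_iso l ((Over.pullback W.ι).map ((Over.pullback f).map u)) u₂ ε.symm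
    (show ε.inv ≫ u₂ = _ by rw [← hε, Iso.inv_hom_id_assoc]) hθ
  have h0 : LocalLeviT ((Over.pullback W.ι).map ((Over.pullback f).map u))
      ((Over.pullback W.ι).map ((Over.pullback f).map t)) w := by
    refine ⟨_, 𝟙 _, inferInstance, w, rfl, Red.bc (𝟙 _) L, inferInstance, (Over.pullback (𝟙 _)).map l,
      Groth.L25.MonoClosed.isMonHom_pullbackMap _ _,
      MorphismProperty.overPullbackMap (P := @IsClosedImmersion) _ l hlcl,
      Groth.L14.Splitting.isReductive_bc hL _, isIso_theta_bc l _ _, (Over.pullback (𝟙 _)).map (e.inv ≫ tL), ?_⟩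
    rw [← Functor.map_comp, Category.assoc, htL, ← het, Iso.inv_hom_id_assoc]
  have h1 := localLeviT_bc _ _ f (localLeviT_bc _ _ W.ι h0)
  rwa [hw] at h1

/-- **The Levi subgroup containing a given maximal torus.** -/
theorem exists_levi_given (hG : Red.IsReductive G) (p : P ⟶ G) (hP : Red.IsParabolic p) (u : U ⟶ P) [IsMonHom u]
    [IsClosedImmersion u.left] [Smooth U.hom] (hu : IsRadBC u) (t : T ⟶ P) [IsMonHom t]
    (hT : Red.IsMaximalTorus (t ≫ p)) :
    ∃ (L : Over S) (_ : GrpObj L) (l : L ⟶ P) (tl : T ⟶ L), Par.IsLevi l ∧ IsClosedImmersion l.left ∧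
      IsMonHom tl ∧ tl ≫ l = t ∧ IsCompl l u := by
  classical
  haveI := hP.1; haveI := hP.2.1; haveI := hG.1; haveI := hP.2.2.1
  haveI : IsAffineHom P.hom := by rw [← Over.w p]; infer_instance
  choose V f hf v hv L gL l hlm hlc hLr hθ tl htl using localLeviT hG p hP u hu t hT
  let π : (∐ V) ⟶ S := Sigma.desc f
  haveI : Etale π := IsZariskiLocalAtSource.sigmaDesc (P := @Etale) hf
  haveI : Surjective π := ⟨fun x => ⟨Sigma.ι V x (v x), by
    rw [← Scheme.Hom.comp_apply, Sigma.ι_desc]; exact hv x⟩⟩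
  letI : ∀ i, GrpObj (L i) := gL
  let ψ : ∀ i, Red.bc (Sigma.ι V i) (Red.bc π P) ≅ Red.bc (f i) P := fun i =>
    ActBC.bcCompIso (Sigma.ι V i) π P (Sigma.ι_desc f i)
  haveI hψ : ∀ i, IsMonHom (ψ i).hom := fun i => ActBC.bcCompIso_isMonHom (G := P) _ _ _
  haveI hψ' : ∀ i, IsMonHom (ψ i).inv := fun i => isMonHom_inv' (ψ i)
  haveI : ∀ i, IsIso (ψ i).inv.left := fun i => inferInstanceAs (IsIso ((Over.forget _).map (ψ i).inv))
  let c : ∀ i, L i ⟶ Red.bc (Sigma.ι V i) (Red.bc π P) := fun i => l i ≫ (ψ i).inv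
  have hcm : ∀ i, IsMonHom (c i) := fun i => by
    haveI : IsMonHom (l i) := hlm i
    haveI : IsMonHom (ψ i).inv := hψ' i
    exact inferInstanceAs (IsMonHom (l i ≫ (ψ i).inv))
  have hcc : ∀ i, IsClosedImmersion (c i).left := fun i => by
    haveI := hlc i
    exact inferInstanceAs (IsClosedImmersion ((l i).left ≫ (ψ i).inv.left))
  obtain ⟨L', gL', l', hl', hl'm, hLs, hLe⟩ := Groth.L08.Borel.exists_subgroup_sigma (Red.bc π P) L c hcm
    (fun i => by haveI := hcc i; exact Over.mono_of_mono_left _)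
  haveI := hl'; haveI := hl'm
  haveI : Smooth L'.hom := hLs fun i => (hLr i).2.1
  haveI : IsClosedImmersion l'.left := of_sigma @IsClosedImmersion l' fun i => by
    obtain ⟨e, -, he⟩ := hLe i
    haveI := hcc i
    haveI : IsIso e.hom.left := inferInstanceAs (IsIso ((Over.forget _).map e.hom))
    show IsClosedImmersion _
    rw [← he, Over.comp_left]; infer_instance
  haveI : IsAffineHom (Red.bc π P).hom := MorphismProperty.pullback_snd (P := @IsAffineHom) _ _ ‹_›
  haveI : IsAffineHom L'.hom := by rw [← Over.w l']; infer_instance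
  haveI hπu : IsIso ((l' ⊗ₘ (Over.pullback π).map u) ≫ μ) := by
    refine @isIso_of_reflects_iso _ _ _ _ _ _ _ (Over.forget _) ?_ _
    show MorphismProperty.isomorphisms Scheme.{u} _
    refine of_sigma (MorphismProperty.isomorphisms Scheme.{u})
      ((l' ⊗ₘ (Over.pullback π).map u) ≫ μ) fun i => ?_
    obtain ⟨e, he', he⟩ := hLe i
    haveI := hlm i; haveI := hθ i
    haveI : IsMonHom e.symm.hom := isMonHom_inv' e
    haveI : IsMonHom (ψ i).symm.hom := hψ' i
    have h := isIso_theta_congr (l i) ((Over.pullback (f i)).map u) ((Over.pullback (Sigma.ι V i)).map l')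
      ((Over.pullback (Sigma.ι V i)).map ((Over.pullback π).map u)) e.symm
      (ActBC.bcCompIso (Sigma.ι V i) π U (Sigma.ι_desc f i)).symm (ψ i).symm
      (show e.inv ≫ _ = l i ≫ (ψ i).inv by rw [← he, Iso.inv_hom_id_assoc]) (by
      show (ActBC.bcCompIso (Sigma.ι V i) π U (Sigma.ι_desc f i)).inv ≫ _ = _ ≫ (ψ i).inv
      rw [Iso.inv_comp_eq, ← Category.assoc, Iso.eq_comp_inv]
      exact ActBC.bcCompIso_hom_naturality _ _ (Sigma.ι_desc f i) u)
    haveI : IsIso ((Over.pullback (Sigma.ι V i)).map ((l' ⊗ₘ (Over.pullback π).map u) ≫ μ)) :=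
      isIso_theta_of_bc (Sigma.ι V i) l' ((Over.pullback π).map u) h
    exact inferInstanceAs (IsIso ((Over.forget (V i)).map
      ((Over.pullback (Sigma.ι V i)).map ((l' ⊗ₘ (Over.pullback π).map u) ≫ μ))))
  have hL'r : Red.IsReductive L' := isReductive_of_local L' inferInstance inferInstance fun x => by
    obtain ⟨i, y, hy⟩ := Scheme.Cover.exists_eq (sigmaOpenCover V) x
    obtain ⟨e, he', -⟩ := hLe i
    haveI : IsMonHom e.symm.hom := isMonHom_inv' e
    exact ⟨V i, Sigma.ι V i, ⟨y, hy⟩, Groth.L14.Splitting.isReductive_congr (Grp.mkIso' e.symm) (hLr i)⟩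
  haveI : IsImmersion l'.left := inferInstance
  obtain ⟨tl', htl'⟩ := exists_hom_of_local ((Over.pullback π).map t) l' fun x => by
    obtain ⟨i, y, hy⟩ := Scheme.Cover.exists_eq (sigmaOpenCover V) x
    obtain ⟨e, -, he⟩ := hLe i
    refine ⟨V i, Sigma.ι V i, inferInstance, ⟨y, hy⟩,
      (ActBC.bcCompIso (Sigma.ι V i) π T (Sigma.ι_desc f i)).hom ≫ tl i ≫ e.inv, ?_⟩
    rw [← he, Category.assoc, Category.assoc, Iso.inv_hom_id_assoc]
    show _ ≫ tl i ≫ l i ≫ (ψ i).inv = _
    rw [reassoc_of% htl i, ← ActBC.bcCompIso_hom_naturality_assoc]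
    simp only [ψ, Iso.hom_inv_id, Category.comp_id]
  haveI : IsMonHom ((Over.pullback π).map p) := Groth.L25.MonoClosed.isMonHom_pullbackMap _ _
  have hc' : IsCompl l' ((Over.pullback π).map u) := ⟨hl', inferInstance, inferInstance,
    fun s => Groth.L08.TorusWeights.isConnected_of_isReductive hL'r s, hπu⟩
  obtain ⟨L₀, gL₀, l₀, hl₀, hl₀c, φ, hφm, hφ⟩ := exists_closedSubgroup_desc l'
    (fun W hW => cover_of_etale W hW) fun Y p₁ p₂ h => by
      let c := p₁ ≫ π
      have key : ∀ (q : Y ⟶ ∐ V) (hq : q ≫ π = c),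
          IsCompl (Groth.L25.Descent.pullInc l' q hq) ((Over.pullback c).map u) ∧
            ∃ tq : Red.bc c T ⟶ Red.bc q L', tq ≫ Groth.L25.Descent.pullInc l' q hq = (Over.pullback c).map t := by
        intro q hq
        let bP := ActBC.bcCompIso q π P hq
        let bU := ActBC.bcCompIso q π U hq
        let bT := ActBC.bcCompIso q π T hq
        haveI : IsMonHom bP.hom := ActBC.bcCompIso_isMonHom (G := P) _ _ _
        haveI : IsIso bP.hom.left := inferInstanceAs (IsIso ((Over.forget _).map bP.hom))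
        have hq' := hc'.bc q
        haveI := hq'.immersion; haveI := hq'.iso; haveI := hq'.hom
        refine ⟨⟨inferInstanceAs (IsMonHom ((Over.pullback q).map l' ≫ bP.hom)),
          inferInstanceAs (IsImmersion (((Over.pullback q).map l').left ≫ bP.hom.left)), hq'.smooth, hq'.conn,
          isIso_theta_congr ((Over.pullback q).map l') ((Over.pullback q).map ((Over.pullback π).map u)) _ _
            (Iso.refl _) bU bP (Category.id_comp _) (ActBC.bcCompIso_hom_naturality q π hq u).symm⟩,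
          bT.inv ≫ (Over.pullback q).map tl', ?_⟩
        show (bT.inv ≫ _) ≫ (Over.pullback q).map l' ≫ bP.hom = _
        rw [Category.assoc, ← Functor.map_comp_assoc, htl', ActBC.bcCompIso_hom_naturality q π hq t,
          Iso.inv_hom_id_assoc]
      obtain ⟨h1, t1, ht1⟩ := key p₁ rfl
      obtain ⟨h2, t2, ht2⟩ := key p₂ h.symm
      have hGc := Groth.L14.Splitting.isReductive_bc hG c
      haveI : IsMonHom ((Over.pullback c).map u) := Groth.L25.MonoClosed.isMonHom_pullbackMap _ _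
      haveI : IsMonHom ((Over.pullback c).map t) := Groth.L25.MonoClosed.isMonHom_pullbackMap _ _
      have hTc : Red.IsMaximalTorus ((Over.pullback c).map t ≫ (Over.pullback c).map p) := by
        haveI := hG.2.1
        rw [← Functor.map_comp]; exact Groth.L08.Borel.isMaximalTorus_bc hT c
      obtain ⟨a, ha⟩ := exists_hom_of_compl' hGc _ (isParabolic_bc hG hP c) _ (hu.bc c) _ hTc _ _ h2 h1 t2 ht2 t1 ht1
      obtain ⟨b, hb⟩ := exists_hom_of_compl' hGc _ (isParabolic_bc hG hP c) _ (hu.bc c) _ hTc _ _ h1 h2 t1 ht1 t2 ht2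
      haveI := h1.immersion; haveI := h2.immersion
      haveI : Mono (Groth.L25.Descent.pullInc l' p₁ (rfl : p₁ ≫ π = c)) := Over.mono_of_mono_left _
      haveI : Mono (Groth.L25.Descent.pullInc l' p₂ (h.symm : p₂ ≫ π = c)) := Over.mono_of_mono_left _
      exact ⟨⟨a, b, (cancel_mono (Groth.L25.Descent.pullInc l' p₁ (rfl : p₁ ≫ π = c))).1
          (by rw [Category.assoc, hb, ha, Category.id_comp]),
        (cancel_mono (Groth.L25.Descent.pullInc l' p₂ (h.symm : p₂ ≫ π = c))).1
          (by rw [Category.assoc, ha, hb, Category.id_comp])⟩, ha⟩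
  haveI := hl₀; haveI := hl₀c; haveI := hφm
  haveI : IsIso φ.hom.left := inferInstanceAs (IsIso ((Over.forget _).map φ.hom))
  haveI : IsAffineHom L₀.hom := by rw [← Over.w l₀]; infer_instance
  have hL₀s : Smooth L₀.hom := by
    refine Groth.L25.FpqcLocal.of_fpqc (P := @Smooth) L₀.hom (𝟙 S) π (fun W hW => cover_of_etale W hW)
      fun x => ⟨⊤, trivial, Groth.L25.FpqcLocal.bc_comp L₀.hom
        (pullback.snd (𝟙 S) ((⊤ : Scheme.Opens _).ι ≫ π) ≫ (⊤ : Scheme.Opens _).ι) π
        (pullback.fst (𝟙 S) ((⊤ : Scheme.Opens _).ι ≫ π))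
        (by rw [Category.assoc, ← pullback.condition, Category.comp_id]) ?_⟩
    show Smooth (Red.bc π L₀).hom
    rw [← Over.w φ.hom]
    infer_instance
  haveI : IsMonHom φ.symm.hom := isMonHom_inv' φ
  have hL₀r : Red.IsReductive L₀ := isReductive_of_local L₀ inferInstance hL₀s fun x =>
    ⟨_, π, π.surjective x, Groth.L14.Splitting.isReductive_congr (Grp.mkIso' φ.symm) hL'r⟩
  haveI : IsImmersion l₀.left := inferInstance
  obtain ⟨tl₀, htl₀⟩ := exists_hom_of_local t l₀ fun x => by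
    obtain ⟨y, hy⟩ := π.surjective x
    exact ⟨_, π, inferInstance, ⟨y, hy⟩, tl' ≫ φ.inv, by rw [Category.assoc, ← hφ, Iso.inv_hom_id_assoc, htl']⟩
  haveI : Mono l₀ := Groth.L08.mono_of_closedImmersion l₀
  haveI hπθ : IsIso ((l₀ ⊗ₘ u) ≫ μ[P]) := by
    have h : IsIso (((Over.pullback π).map l₀ ⊗ₘ (Over.pullback π).map u) ≫ μ) := by
      haveI : IsMonHom (Iso.refl (Red.bc π P)).hom := inferInstanceAs (IsMonHom (𝟙 _))
      exact isIso_theta_congr l' ((Over.pullback π).map u) _ _ φ.symm (Iso.refl _) (Iso.refl _)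
        (show φ.inv ≫ _ = l' ≫ 𝟙 _ by rw [← hφ, Iso.inv_hom_id_assoc, Category.comp_id])
        ((Category.id_comp _).trans (Category.comp_id _).symm)
    haveI := isIso_theta_of_bc π l₀ u h
    refine @isIso_of_reflects_iso _ _ _ _ _ _ _ (Over.forget _) ?_ _
    show MorphismProperty.isomorphisms Scheme.{u} ((l₀ ⊗ₘ u) ≫ μ[P]).left
    refine Groth.L25.FpqcLocal.of_fpqc (P := MorphismProperty.isomorphisms Scheme.{u}) ((l₀ ⊗ₘ u) ≫ μ[P]).left
      P.hom π (fun W hW => cover_of_etale W hW) fun x => ⟨⊤, trivial, ?_⟩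
    refine Groth.L25.FpqcLocal.bc_comp _
      (pullback.map P.hom ((⊤ : Scheme.Opens _).ι ≫ π) P.hom π (𝟙 _) (⊤ : Scheme.Opens _).ι (𝟙 _) (by simp) (by simp))
      (pullback.fst P.hom π) (pullback.fst P.hom ((⊤ : Scheme.Opens _).ι ≫ π))
      ((pullback.lift_fst _ _ _).trans (Category.comp_id _)) ?_
    let m := (l₀ ⊗ₘ u) ≫ μ[P]
    have hsq : IsPullback (pullback.fst (L₀ ⊗ U).hom π) ((Over.pullback π).map m).left m.left
        (pullback.fst P.hom π) := by
      refine IsPullback.of_bot ?_ (pullback.lift_fst _ _ _).symm (IsPullback.of_hasPullback P.hom π)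
      rw [show ((Over.pullback π).map m).left ≫ pullback.snd P.hom π = pullback.snd (L₀ ⊗ U).hom π from
        pullback.lift_snd _ _ _, Over.w m]
      exact IsPullback.of_hasPullback (L₀ ⊗ U).hom π
    rw [← hsq.isoPullback_inv_snd]
    exact (MorphismProperty.cancel_left_of_respectsIso _ _ _).2
      (inferInstanceAs (IsIso ((Over.forget _).map ((Over.pullback π).map m))))
  exact ⟨L₀, gL₀, l₀, tl₀, ⟨hl₀, inferInstance, hL₀r, U, inferInstance, u, hu.radical, hπθ⟩, hl₀c,
    Groth.L08.TorusWeights.isMonHom_of_mono tl₀ l₀ t htl₀, htl₀,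
    ⟨hl₀, inferInstance, hL₀s, fun s => Groth.L08.TorusWeights.isConnected_of_isReductive hL₀r s, hπθ⟩⟩

end Groth.L15.Levi

end
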