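import Groth.Agent.L15.Levi.Span
import Groth.Agent.L14.Splitting.Etale

/-!
A maximal torus of a parabolic subgroup is etale-locally the torus of a splitting for which the roots of the
parabolic subgroup are constant.
-/

set_option autoImplicit false
set_option linter.style.haveILetI false
set_option linter.unusedSectionVars false
set_option backward.isDefEq.respectTransparency.types false
set_option maxHeartbeats 1600000
universe u

open CategoryTheory CategoryTheory.Limits AlgebraicGeometry MonoidalCategory CartesianMonoidalCategory MonObj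
open Groth.L25 Groth.L14 Groth.L14.RankOne Groth.L14.Chart Groth.L14.TypeR Groth.L14.BorelLoc Groth.L14.Chev.Cell
open Groth.L15.TypeRLe

noncomputable section

namespace Groth.L15.Levi

variable {S : Scheme.{u}} {G P T : Over S} [GrpObj G] [GrpObj P] [GrpObj T]

/-- **Etale-local data of a parabolic subgroup with a maximal torus.** -/
theorem exists_local_datum (hG : Red.IsReductive G) (p : P ⟶ G) (hP : Red.IsParabolic p) (t : T ⟶ P) [IsMonHom t]
    (hT : Red.IsMaximalTorus (t ≫ p)) (s : S) :
    ∃ (V : Scheme.{u}) (f : V ⟶ S) (_ : Etale f) (W : V.Opens) (w : W.toScheme), f (W.ι w) = s ∧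
      ∃ (D : Red.SplitRed (Red.bc W.ι (Red.bc f G))) (t' : D.T ⟶ Red.bc W.ι (Red.bc f P))
        (e : D.T ≅ Red.bc W.ι (Red.bc f T)) (R' : Set D.idx)
        (_ : IsMonHom ((Over.pullback W.ι).map ((Over.pullback f).map p))),
        e.hom ≫ (Over.pullback W.ι).map ((Over.pullback f).map t) = t' ∧
          t' ≫ (Over.pullback W.ι).map ((Over.pullback f).map p) = D.i ∧
          ConstRoots D ((Over.pullback W.ι).map ((Over.pullback f).map p)) R' := by
  classical
  haveI := hP.1
  obtain ⟨V, f, hf, r, ⟨v₀, hv₀⟩, hGf, hTf, ⟨R⟩⟩ := Groth.L14.Splitting.exists_rootData_etale hG (t ≫ p) hT s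
  haveI : Nonempty V := ⟨v₀⟩
  let D₀ : Red.SplitRed (Red.bc f G) := R.splitRed (fun _ => trivial) hGf hTf
  haveI hpf : IsMonHom ((Over.pullback f).map p) := Groth.L25.MonoClosed.isMonHom_pullbackMap _ _
  haveI : IsClosedImmersion ((Over.pullback f).map p).left :=
    MorphismProperty.overPullbackMap (P := @IsClosedImmersion) f p hP.2.1
  haveI : Smooth (Red.bc f P).hom := MorphismProperty.pullback_snd (P := @Smooth) _ _ hP.2.2.1
  have hh : IsImmersion ((Over.pullback f).map p).left := inferInstance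
  have ht₀ : ((Over.pullback f).map t : D₀.T ⟶ Red.bc f P) ≫ (Over.pullback f).map p = D₀.i :=
    ((Over.pullback f).map_comp t p).symm
  obtain ⟨b⟩ := Groth.L14.AlmostSimple.exists_base D₀
  obtain ⟨n, en, hen⟩ := exists_enum (D := D₀) (RedSub.negRoots D₀.P b)
  obtain ⟨m, ep, hep⟩ := exists_enum (D := D₀) (RedSub.posRoots D₀.P b)
  let A : D₀.idx → Set V := fun c => {v | TanAt D₀ ((Over.pullback f).map p) (Red.geomPt v) c}
  let C : D₀.idx → Set V := fun c => if v₀ ∈ A c then A c else (A c)ᶜ
  have hC : ∀ c, IsClopen (C c) := fun c => by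
    have h := isClopen_tanAt hen hep hh ((Over.pullback f).map t) ht₀ c
    by_cases hc : v₀ ∈ A c
    · simp only [C, hc, if_true]; exact h
    · simp only [C, hc, if_false]; exact h.compl
  have hmem : ∀ v c, v ∈ C c ↔ (v ∈ A c ↔ v₀ ∈ A c) := fun v c => by
    by_cases hc : v₀ ∈ A c <;> simp [C, hc]
  let W : V.Opens := ⟨⋂ c, C c, isOpen_iInter_of_finite fun c => (hC c).2⟩
  have hw : v₀ ∈ W := Set.mem_iInter.2 fun c => (hmem _ c).2 Iff.rfl
  haveI hpW : IsMonHom ((Over.pullback W.ι).map ((Over.pullback f).map p)) :=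
    Groth.L25.MonoClosed.isMonHom_pullbackMap _ _
  refine ⟨V, f, hf, W, ⟨v₀, hw⟩, hv₀, splitBC W.ι D₀, (Over.pullback W.ι).map ((Over.pullback f).map t), Iso.refl _,
    {c : D₀.idx | v₀ ∈ A c}, hpW, Category.id_comp _, ?_, fun x c => ?_⟩
  · exact ((Over.pullback W.ι).map_comp _ _).symm.trans (congrArg _ ht₀)
  · exact (tanAt_bc_geomPt (D := D₀) hen hep W.ι hh x c).trans ((hmem _ c).1 (Set.mem_iInter.1 x.2 c))

end Groth.L15.Levi

end
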