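import Groth.Agent.L14.BorelLoc.SplitBC
import Groth.Agent.L25.CentralLift.Etale

/-!
Base change of powers and of ordered products of root homomorphisms.
-/

set_option autoImplicit false
set_option linter.style.haveILetI false
set_option linter.unusedSectionVars false
set_option backward.isDefEq.respectTransparency.types false
universe u

open CategoryTheory CategoryTheory.Limits AlgebraicGeometry MonoidalCategory CartesianMonoidalCategory MonObj
open Groth.L25 Groth.L14 Groth.L14.RankOne Groth.L14.BorelLoc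

noncomputable section

namespace Groth.L15.Levi

variable {S V : Scheme.{u}} (j : V ⟶ S)

theorem bc_hom_ext {X Y : Over S} {Z : Over V} {a b : Z ⟶ Red.bc j (X ⊗ Y)}
    (h₁ : a ≫ (Over.pullback j).map (fst X Y) = b ≫ (Over.pullback j).map (fst X Y))
    (h₂ : a ≫ (Over.pullback j).map (snd X Y) = b ≫ (Over.pullback j).map (snd X Y)) : a = b := by
  refine Luna.SemiRank.toBase_inj j (CartesianMonoidalCategory.hom_ext _ _ ?_ ?_)
  · simpa only [toBase_comp_map] using congrArg (NilAction.toBase j) h₁
  · simpa only [toBase_comp_map] using congrArg (NilAction.toBase j) h₂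

/-- the morphism to the base change of a product with given components -/
def bcLift {X Y : Over S} {Z : Over V} (a : Z ⟶ Red.bc j X) (b : Z ⟶ Red.bc j Y) : Z ⟶ Red.bc j (X ⊗ Y) :=
  NilAction.ofBase j (lift (NilAction.toBase j a) (NilAction.toBase j b))

theorem bcLift_fst {X Y : Over S} {Z : Over V} (a : Z ⟶ Red.bc j X) (b : Z ⟶ Red.bc j Y) :
    bcLift j a b ≫ (Over.pullback j).map (fst X Y) = a := by
  refine Luna.SemiRank.toBase_inj j ?_
  rw [toBase_comp_map, bcLift, NilAction.toBase_ofBase, lift_fst]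

theorem bcLift_snd {X Y : Over S} {Z : Over V} (a : Z ⟶ Red.bc j X) (b : Z ⟶ Red.bc j Y) :
    bcLift j a b ≫ (Over.pullback j).map (snd X Y) = b := by
  refine Luna.SemiRank.toBase_inj j ?_
  rw [toBase_comp_map, bcLift, NilAction.toBase_ofBase, lift_snd]

/-- **Powers of the additive group commute with base change, with the products of morphisms.** -/
theorem exists_powBC {G : Over S} [GrpObj G] : ∀ m : ℕ,
    ∃ e : RedSub.pow (Red.Ga V) m ≅ Red.bc j (RedSub.pow (Red.Ga S) m), ∀ f : Fin m → (Red.Ga S ⟶ G),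
      e.hom ≫ (Over.pullback j).map (RedSub.prodMap (Red.Ga S) m f) =
        RedSub.prodMap (Red.Ga V) m (fun k => (Luna.SemiRank.bcGa j).inv ≫ (Over.pullback j).map (f k))
  | 0 => by
    let a : 𝟙_ (Over V) ⟶ Red.bc j (𝟙_ (Over S)) := NilAction.ofBase j (toUnit _)
    refine ⟨⟨a, toUnit _, toUnit_unique _ _, Luna.SemiRank.toBase_inj j (toUnit_unique _ _)⟩, fun f => ?_⟩
    show a ≫ (Over.pullback j).map (1 : 𝟙_ (Over S) ⟶ G) = 1
    rw [show (Over.pullback j).map (1 : 𝟙_ (Over S) ⟶ G) = 1 from
      map_one (Functor.homMonoidHom (Over.pullback j)), MonObj.comp_one]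
  | m + 1 => by
    obtain ⟨e, he⟩ := exists_powBC (G := G) m
    let X := Red.Ga S
    let Y := RedSub.pow X m
    let Z := RedSub.pow (Red.Ga V) m
    let a : Red.Ga V ⊗ Z ⟶ Red.bc j (X ⊗ Y) :=
      bcLift j (fst _ _ ≫ (Luna.SemiRank.bcGa j).inv) (snd _ _ ≫ e.hom)
    let b : Red.bc j (X ⊗ Y) ⟶ Red.Ga V ⊗ Z :=
      lift ((Over.pullback j).map (fst X Y) ≫ (Luna.SemiRank.bcGa j).hom) ((Over.pullback j).map (snd X Y) ≫ e.inv)
    have h1 : a ≫ b = 𝟙 _ := CartesianMonoidalCategory.hom_ext _ _
      (by simp only [a, b, Category.assoc, lift_fst, reassoc_of% (bcLift_fst j), Category.id_comp, Iso.inv_hom_id,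
        Category.comp_id])
      (by simp only [a, b, Category.assoc, lift_snd, reassoc_of% (bcLift_snd j), Category.id_comp, Iso.hom_inv_id,
        Category.comp_id])
    have h2 : b ≫ a = 𝟙 _ := bc_hom_ext j
      (by simp only [a, b, Category.assoc, bcLift_fst, lift_fst_assoc, Iso.hom_inv_id, Category.comp_id,
        Category.id_comp])
      (by simp only [a, b, Category.assoc, bcLift_snd, lift_snd_assoc, Iso.inv_hom_id, Category.comp_id,
        Category.id_comp])
    refine ⟨⟨a, b, h1, h2⟩, fun f => ?_⟩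
    show a ≫ (Over.pullback j).map ((fst X Y ≫ f 0) * (snd X Y ≫ RedSub.prodMap X m fun k => f k.succ)) =
      (fst (Red.Ga V) Z ≫ _) * (snd (Red.Ga V) Z ≫ RedSub.prodMap (Red.Ga V) m _)
    rw [show (Over.pullback j).map ((fst X Y ≫ f 0) * (snd X Y ≫ RedSub.prodMap X m fun k => f k.succ)) =
        (Over.pullback j).map (fst X Y ≫ f 0) * (Over.pullback j).map (snd X Y ≫ RedSub.prodMap X m fun k => f k.succ) from
      map_mul (Functor.homMonoidHom (Over.pullback j)) _ _, MonObj.comp_mul, Functor.map_comp, Functor.map_comp,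
      ← Category.assoc a, bcLift_fst, ← Category.assoc a, bcLift_snd, Category.assoc, Category.assoc, he]

/-- The ordered product of the base-changed root homomorphisms. -/
theorem exists_powBC_root {G : Over S} [GrpObj G] (D : Red.SplitRed G) {m : ℕ} (c : Fin m → D.idx) :
    ∃ e : RedSub.pow (Red.Ga V) m ≅ Red.bc j (RedSub.pow (Red.Ga S) m),
      e.hom ≫ (Over.pullback j).map (RedSub.prodMap (Red.Ga S) m (fun k => D.u (c k))) =
        RedSub.prodMap (Red.Ga V) m (fun k => (splitBC j D).u (c k)) := by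
  obtain ⟨e, he⟩ := exists_powBC j (G := G) m
  exact ⟨e, he _⟩

end Groth.L15.Levi

end
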