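import Groth.Agent.L19.AffSpec.Extend
import Groth.Agent.L14.Luna.Cor
import Groth.Agent.L08.Borel.MaxTorusDesc
import Groth.Agent.L20.Unir.HopfData
import Groth.Agent.L14.Luna.SemiRank.SplitField
import Groth.Agent.L14.RankOne.NonComm

/-!
Base change of the defining properties of a unipotent radical.
-/

set_option autoImplicit false
set_option linter.style.haveILetI false
set_option linter.unusedSectionVars false
set_option backward.isDefEq.respectTransparency.types false
universe u

open CategoryTheory CategoryTheory.Limits AlgebraicGeometry MonoidalCategory CartesianMonoidalCategory MonObj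
open Groth.L25 Groth.L14

noncomputable section

namespace Groth.L15.Levi

variable {S V : Scheme.{u}} (j : V ⟶ S)

/-- The base change of a normal subgroup is normal. -/
theorem isNormalHom_bc {N G : Over S} [GrpObj N] [GrpObj G] {i : N ⟶ G} (h : AlgGrp.IsNormalHom i) :
    AlgGrp.IsNormalHom ((Over.pullback j).map i) := by
  intro T g n
  obtain ⟨n', hn'⟩ := h _ (NilAction.toBase j g) (NilAction.toBase j n)
  have hinv : ∀ z : T ⟶ Red.bc j G, NilAction.toBase j z⁻¹ = (NilAction.toBase j z)⁻¹ := fun z =>
    map_inv (MonoidHom.mk' (NilAction.toBase j : (T ⟶ Red.bc j G) → _) (NilAction.toBase_mul j)) z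
  refine ⟨NilAction.ofBase j n', Luna.SemiRank.toBase_inj j ?_⟩
  rw [RankOne.toBase_comp_map, NilAction.toBase_ofBase, NilAction.toBase_mul, NilAction.toBase_mul, hinv,
    RankOne.toBase_comp_map, hn']

/-- Connectedness of the geometric fibres and absence of subtori pass to base changes. -/
theorem fibres_bc {U : Over S} [GrpObj U] [IsAffineHom U.hom] [Smooth U.hom]
    (h : ∀ s : S, ConnectedSpace (Red.geomFibre s U).left ∧
      Red.HasNoSubtorus (AlgebraicClosure (S.residueField s)) (Red.geomFibre s U)) (v : V) :
    ConnectedSpace (Red.geomFibre v (Red.bc j U)).left ∧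
      Red.HasNoSubtorus (AlgebraicClosure (V.residueField v)) (Red.geomFibre v (Red.bc j U)) := by
  obtain ⟨θ, hθ⟩ := Groth.L08.Borel.exists_geomPt_map j v
  haveI := (h (j v)).1
  haveI : IsAffineHom (Red.geomFibre (j v) U).hom := MorphismProperty.pullback_snd (P := @IsAffineHom) _ _ ‹_›
  haveI : IsAffine (Red.geomFibre (j v) U).left := isAffine_of_isAffineHom (Red.geomFibre (j v) U).hom
  haveI : Smooth (Red.geomFibre (j v) U).hom := inferInstanceAs (Smooth (pullback.snd U.hom (Red.geomPt (j v))))
  let e := Groth.L08.Borel.fibreIso j θ hθ U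
  haveI := (Groth.L08.Borel.isMonHom_fibreIso j θ hθ U).1
  haveI : IsIso e.hom.left := inferInstanceAs (IsIso ((Over.forget _).map e.hom))
  haveI : IsIso e.inv.left := inferInstanceAs (IsIso ((Over.forget _).map e.inv))
  haveI : ConnectedSpace (Red.bc θ (Red.geomFibre (j v) U)).left :=
    Groth.L20.Unirat.connectedSpace_bc_field θ (Red.geomFibre (j v) U)
  refine ⟨e.inv.left.surjective.connectedSpace e.inv.left.continuous, ?_⟩
  exact Groth.L14.Luna.hasNoSubtorus_of_mono e.hom
    ((Groth.L19.AffSpec.noSubtorus_bc_iff θ (Red.geomFibre (j v) U)).2 (h (j v)).2)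

end Groth.L15.Levi

end
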