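import Groth.Agent.L15.Levi.Props
import Groth.Agent.L15.TypeRLe.Factor
import Groth.Agent.L25.Descent.Subgroup

/-!
Unipotent radicals and their behaviour under base change: the universal version, locality.
-/

set_option autoImplicit false
set_option linter.style.haveILetI false
set_option linter.unusedSectionVars false
set_option backward.isDefEq.respectTransparency.types false
set_option maxHeartbeats 1000000
universe u

open CategoryTheory CategoryTheory.Limits AlgebraicGeometry MonoidalCategory CartesianMonoidalCategory MonObj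
open Groth.L25 Groth.L14 Groth.L15.TypeRLe

noncomputable section

namespace Groth.L15.Levi

variable {S : Scheme.{u}}

/-- A unipotent radical which stays one after every base change. -/
structure IsRadBC {U P : Over S} [GrpObj U] [GrpObj P] (u : U ⟶ P) : Prop where
  /-- the base changes are unipotent radicals -/
  out : ∀ {V : Scheme.{u}} (j : V ⟶ S), Par.IsUnipotentRadical ((Over.pullback j).map u)

theorem isMonHom_inv' {X Y : Over S} [GrpObj X] [GrpObj Y] (a : X ≅ Y) [IsMonHom a.hom] : IsMonHom a.inv :=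
  Groth.L25.Bridge.isMonHom_of_mul a.inv fun T x y => by
    haveI : Mono a.hom := inferInstance
    rw [← cancel_mono a.hom, Category.assoc, Iso.inv_hom_id, Category.comp_id,
      MonObj.mul_comp (x ≫ a.inv) (y ≫ a.inv) a.hom, Category.assoc, Category.assoc, Iso.inv_hom_id, Category.comp_id,
      Category.comp_id]

/-- Unipotent radicals are invariant under isomorphisms. -/
theorem isUnipotentRadical_congr {U P U' P' : Over S} [GrpObj U] [GrpObj P] [GrpObj U'] [GrpObj P'] (u : U ⟶ P)
    (u' : U' ⟶ P') (a : U ≅ U') (b : P ≅ P') [IsMonHom a.hom] [IsMonHom b.hom] (h : a.hom ≫ u' = u ≫ b.hom)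
    (hu : Par.IsUnipotentRadical u) : Par.IsUnipotentRadical u' := by
  obtain ⟨hm, hcl, hn, hs, hq, hf, hmax⟩ := hu
  haveI := hm; haveI := hcl; haveI := hs; haveI := hq
  haveI := isMonHom_inv' a; haveI := isMonHom_inv' b
  haveI : IsIso a.inv.left := inferInstanceAs (IsIso ((Over.forget _).map a.inv))
  haveI : IsIso b.hom.left := inferInstanceAs (IsIso ((Over.forget _).map b.hom))
  haveI : IsIso b.inv.left := inferInstanceAs (IsIso ((Over.forget _).map b.inv))
  have e : u' = a.inv ≫ u ≫ b.hom := by rw [← h, Iso.inv_hom_id_assoc]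
  subst e
  refine ⟨inferInstance, by rw [Over.comp_left, Over.comp_left]; infer_instance, fun T g n => ?_,
    by rw [← Over.w a.inv]; infer_instance, by rw [← Over.w a.inv]; infer_instance, fun s => ?_,
    fun U'' _ u'' _ hcl'' hn'' hs'' hq'' hf'' => ?_⟩
  · obtain ⟨n', hn'⟩ := hn T (g ≫ b.inv) (n ≫ a.inv)
    refine ⟨n' ≫ a.hom, ?_⟩
    have := congrArg (· ≫ b.hom) hn'
    simp only [MonObj.mul_comp, GrpObj.inv_comp, Category.assoc, Iso.inv_hom_id, Category.comp_id] at this
    simp only [Category.assoc, Iso.hom_inv_id_assoc]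
    exact this
  · haveI := (hf s).1
    let F := Over.pullback (Red.geomPt s)
    haveI : IsMonHom (F.map a.inv) := Groth.L25.MonoClosed.isMonHom_pullbackMap _ _
    haveI : IsIso (F.map a.hom).left := inferInstanceAs (IsIso ((Over.forget _).map (F.map a.hom)))
    exact ⟨(F.map a.hom).left.surjective.connectedSpace (F.map a.hom).left.continuous,
      Groth.L14.Luna.hasNoSubtorus_of_mono (F.map a.inv) (hf s).2⟩
  · haveI := hcl''
    have hnn : AlgGrp.IsNormalHom (u'' ≫ b.inv) := fun T g n => by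
      obtain ⟨n', hn'⟩ := hn'' T (g ≫ b.hom) n
      refine ⟨n', ?_⟩
      have := congrArg (· ≫ b.inv) hn'
      simp only [MonObj.mul_comp, GrpObj.inv_comp, Category.assoc, Iso.hom_inv_id, Category.comp_id] at this
      exact this
    obtain ⟨f, hf'⟩ := hmax U'' (u'' ≫ b.inv) (by rw [Over.comp_left]; infer_instance) hnn hs'' hq'' hf''
    exact ⟨f ≫ a.hom, by rw [Category.assoc, Iso.hom_inv_id_assoc, ← Category.assoc, hf', Category.assoc,
      Iso.inv_hom_id, Category.comp_id]⟩

/-- Two unipotent radicals are isomorphic as subgroups. -/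
theorem radical_unique {U U' P : Over S} [GrpObj U] [GrpObj U'] [GrpObj P] {u : U ⟶ P} {u' : U' ⟶ P}
    (h : Par.IsUnipotentRadical u) (h' : Par.IsUnipotentRadical u') :
    ∃ e : U' ≅ U, IsMonHom e.hom ∧ e.hom ≫ u = u' := by
  obtain ⟨hm, hcl, hn, hs, hq, hf, hmax⟩ := h
  obtain ⟨hm', hcl', hn', hs', hq', hf', hmax'⟩ := h'
  haveI := hm; haveI := hm'; haveI := hcl; haveI := hcl'
  haveI : Mono u := Groth.L08.mono_of_closedImmersion u
  haveI : Mono u' := Groth.L08.mono_of_closedImmersion u'
  obtain ⟨f, hf₁⟩ := hmax U' u' hcl' hn' hs' hq' hf'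
  obtain ⟨g, hg₁⟩ := hmax' U u hcl hn hs hq hf
  refine ⟨⟨f, g, (cancel_mono u').1 (by rw [Category.assoc, hg₁, hf₁, Category.id_comp]),
    (cancel_mono u).1 (by rw [Category.assoc, hf₁, hg₁, Category.id_comp])⟩, ?_, hf₁⟩
  exact Groth.L25.Bridge.isMonHom_of_mul f fun T x y => by
    rw [← cancel_mono u, Category.assoc, hf₁, MonObj.mul_comp (x ≫ f) (y ≫ f) u, Category.assoc, Category.assoc, hf₁]
    exact MonObj.mul_comp x y u'

/-- **A subgroup which is a unipotent radical flat-locally is one.** -/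
theorem isRadical_of_local {U P : Over S} [GrpObj U] [GrpObj P] (u : U ⟶ P) [IsMonHom u] [IsClosedImmersion u.left]
    [IsAffineHom P.hom] [Smooth U.hom]
    (hloc : ∀ x : S, ∃ (W : Scheme.{u}) (k : W ⟶ S) (_ : Flat k), x ∈ Set.range k.base ∧
      Par.IsUnipotentRadical ((Over.pullback k).map u)) : Par.IsUnipotentRadical u := by
  haveI : IsAffineHom U.hom := by rw [← Over.w u]; infer_instance
  haveI : IsImmersion u.left := inferInstance
  refine ⟨inferInstance, inferInstance, ?_, inferInstance, inferInstance, fun s => ?_,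
    fun U' _ u' _ hcl' hn' hs' hq' hf' => ?_⟩
  · let c : P ⊗ U ⟶ P := fst P U * (snd P U ≫ u) * (fst P U)⁻¹
    obtain ⟨w, hw⟩ := exists_hom_of_local c u fun x => by
      obtain ⟨W, k, hk, hx, hrad⟩ := hloc x
      let F := Over.pullback k
      obtain ⟨w, hw⟩ := hrad.2.2.1 _ (F.map (fst P U)) (F.map (snd P U))
      refine ⟨W, k, hk, hx, w, hw.symm.trans ?_⟩
      let φ : (P ⊗ U ⟶ P) →* (F.obj (P ⊗ U) ⟶ F.obj P) := Functor.homMonoidHom F
      show _ = φ (fst P U * (snd P U ≫ u) * (fst P U)⁻¹)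
      rw [map_mul, map_mul, map_inv]
      show _ = F.map (fst P U) * F.map (snd P U ≫ u) * (F.map (fst P U))⁻¹
      rw [F.map_comp]
    intro T g n
    refine ⟨lift g n ≫ w, ?_⟩
    rw [Category.assoc, hw]
    simp only [c, MonObj.comp_mul, GrpObj.comp_inv, lift_fst, lift_snd_assoc]
  · obtain ⟨W, k, -, ⟨v, rfl⟩, hrad⟩ := hloc s
    obtain ⟨θ, hθ⟩ := Groth.L08.Borel.exists_geomPt_map k v
    obtain ⟨hc, hn⟩ := hrad.2.2.2.2.2.1 v
    let e := Groth.L08.Borel.fibreIso k θ hθ U
    haveI := (Groth.L08.Borel.isMonHom_fibreIso k θ hθ U).2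
    haveI : IsIso e.hom.left := inferInstanceAs (IsIso ((Over.forget _).map e.hom))
    haveI := hc
    haveI : ConnectedSpace (Red.bc θ (Red.geomFibre (k v) U)).left :=
      e.hom.left.surjective.connectedSpace e.hom.left.continuous
    haveI : ConnectedSpace ↥(pullback (Red.geomFibre (k v) U).hom θ) := ‹ConnectedSpace (Red.bc θ (Red.geomFibre (k v) U)).left›
    haveI : Surjective θ := ⟨fun z => ⟨IsLocalRing.closedPoint _, Subsingleton.elim (α := PrimeSpectrum _) _ _⟩⟩
    haveI : Surjective (pullback.fst (Red.geomFibre (k v) U).hom θ) :=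
      MorphismProperty.pullback_fst (P := @Surjective) _ _ ‹_›
    refine ⟨(pullback.fst (Red.geomFibre (k v) U).hom θ).surjective.connectedSpace
      (pullback.fst (Red.geomFibre (k v) U).hom θ).continuous, ?_⟩
    exact Groth.L19.AffSpec.noSubtorus_of_bc θ _ (Groth.L14.Luna.hasNoSubtorus_of_mono e.inv hn)
  · haveI := hcl'; haveI := hs'; haveI := hq'
    haveI : IsAffineHom U'.hom := by rw [← Over.w u']; infer_instance
    refine exists_hom_of_local u' u fun x => ?_
    obtain ⟨W, k, hk, hx, hrad⟩ := hloc x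
    haveI : IsMonHom ((Over.pullback k).map u') := Groth.L25.MonoClosed.isMonHom_pullbackMap _ _
    exact ⟨W, k, hk, hx, hrad.2.2.2.2.2.2 (Red.bc k U') ((Over.pullback k).map u')
      (MorphismProperty.overPullbackMap (P := @IsClosedImmersion) k u' hcl') (isNormalHom_bc k hn')
      (MorphismProperty.pullback_snd (P := @Smooth) _ _ hs')
      (MorphismProperty.pullback_snd (P := @QuasiCompact) _ _ hq') (fibres_bc k hf')⟩

/-- A universal unipotent radical is a unipotent radical. -/
theorem IsRadBC.radical {U P : Over S} [GrpObj U] [GrpObj P] {u : U ⟶ P} [IsMonHom u] [IsClosedImmersion u.left]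
    [IsAffineHom P.hom] [Smooth U.hom] (h : IsRadBC u) : Par.IsUnipotentRadical u :=
  isRadical_of_local u fun x => ⟨S, 𝟙 S, inferInstance, ⟨x, rfl⟩, h.out (𝟙 S)⟩

/-- Composite base changes. -/
theorem isRadical_comp {U P : Over S} [GrpObj U] [GrpObj P] (u : U ⟶ P) [IsMonHom u] {V W : Scheme.{u}} (k : W ⟶ V)
    (j : V ⟶ S) {d : W ⟶ S} (h : k ≫ j = d) :
    Par.IsUnipotentRadical ((Over.pullback d).map u) ↔
      Par.IsUnipotentRadical ((Over.pullback k).map ((Over.pullback j).map u)) := by
  haveI : IsMonHom (ActBC.bcCompIso k j U h).hom := ActBC.bcCompIso_isMonHom (G := U) _ _ _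
  haveI : IsMonHom (ActBC.bcCompIso k j P h).hom := ActBC.bcCompIso_isMonHom (G := P) _ _ _
  haveI := isMonHom_inv' (ActBC.bcCompIso k j U h)
  haveI := isMonHom_inv' (ActBC.bcCompIso k j P h)
  constructor
  · haveI : IsMonHom (ActBC.bcCompIso k j U h).symm.hom := ‹IsMonHom (ActBC.bcCompIso k j U h).inv›
    haveI : IsMonHom (ActBC.bcCompIso k j P h).symm.hom := ‹IsMonHom (ActBC.bcCompIso k j P h).inv›
    refine isUnipotentRadical_congr _ _ (ActBC.bcCompIso k j U h).symm (ActBC.bcCompIso k j P h).symm ?_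
    show (ActBC.bcCompIso k j U h).inv ≫ _ = _ ≫ (ActBC.bcCompIso k j P h).inv
    rw [Iso.inv_comp_eq, ← Category.assoc, Iso.eq_comp_inv]
    exact ActBC.bcCompIso_hom_naturality k j h u
  · exact isUnipotentRadical_congr _ _ (ActBC.bcCompIso k j U h) (ActBC.bcCompIso k j P h)
      (ActBC.bcCompIso_hom_naturality k j h u).symm

theorem IsRadBC.bc {U P : Over S} [GrpObj U] [GrpObj P] {u : U ⟶ P} [IsMonHom u] (h : IsRadBC u) {V : Scheme.{u}}
    (j : V ⟶ S) : IsRadBC ((Over.pullback j).map u) :=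
  ⟨fun k => (isRadical_comp u k j rfl).1 (h.out (k ≫ j))⟩

theorem IsRadBC.congr {U P U' P' : Over S} [GrpObj U] [GrpObj P] [GrpObj U'] [GrpObj P'] {u : U ⟶ P}
    (h : IsRadBC u) (u' : U' ⟶ P') (a : U ≅ U') (b : P ≅ P') [IsMonHom a.hom] [IsMonHom b.hom]
    (hab : a.hom ≫ u' = u ≫ b.hom) : IsRadBC u' := by
  refine ⟨fun {V} j => ?_⟩
  let F := Over.pullback j
  haveI : IsMonHom (F.mapIso a).hom := Groth.L25.MonoClosed.isMonHom_pullbackMap _ a.hom
  haveI : IsMonHom (F.mapIso b).hom := Groth.L25.MonoClosed.isMonHom_pullbackMap _ b.hom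
  refine isUnipotentRadical_congr _ _ (F.mapIso a) (F.mapIso b) ?_ (h.out j)
  show F.map a.hom ≫ F.map u' = F.map u ≫ F.map b.hom
  rw [← F.map_comp, hab, F.map_comp]

/-- **A subgroup which is universally a unipotent radical flat-locally is one universally.** -/
theorem isRadBC_of_local {U P : Over S} [GrpObj U] [GrpObj P] (u : U ⟶ P) [IsMonHom u] [IsClosedImmersion u.left]
    [IsAffineHom P.hom] [Smooth U.hom]
    (hloc : ∀ x : S, ∃ (W : Scheme.{u}) (k : W ⟶ S) (_ : Flat k), x ∈ Set.range k.base ∧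
      IsRadBC ((Over.pullback k).map u)) : IsRadBC u := by
  refine ⟨fun {V} j => ?_⟩
  haveI : IsClosedImmersion ((Over.pullback j).map u).left :=
    MorphismProperty.overPullbackMap (P := @IsClosedImmersion) j u ‹_›
  haveI : IsMonHom ((Over.pullback j).map u) := Groth.L25.MonoClosed.isMonHom_pullbackMap _ _
  haveI : IsAffineHom (Red.bc j P).hom := MorphismProperty.pullback_snd (P := @IsAffineHom) _ _ ‹_›
  haveI : Smooth (Red.bc j U).hom := MorphismProperty.pullback_snd (P := @Smooth) _ _ ‹_›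
  refine isRadical_of_local _ fun x => ?_
  obtain ⟨W, k, hk, ⟨w, hw⟩, hrad⟩ := hloc (j x)
  obtain ⟨q, hq, -⟩ := Scheme.Pullback.exists_preimage_pullback (f := j) (g := k) x w hw.symm
  refine ⟨_, pullback.fst j k, MorphismProperty.pullback_fst (P := @Flat) _ _ hk, ⟨q, hq⟩, ?_⟩
  exact (isRadical_comp u (pullback.fst j k) j rfl).1 ((isRadical_comp u (pullback.snd j k) k
    pullback.condition.symm).2 (hrad.out (pullback.snd j k)))

end Groth.L15.Levi

end
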