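import Groth.Agent.L15.Levi.Local
import Groth.Agent.L15.Levi.Desc
import Groth.Agent.L08.Borel.SigmaSub

/-!
Parabolic subgroups have a unipotent radical, stable under base change.
-/

set_option autoImplicit false
set_option linter.style.haveILetI false
set_option linter.unusedSectionVars false
set_option backward.isDefEq.respectTransparency.types false
set_option maxHeartbeats 1600000
universe u

open CategoryTheory CategoryTheory.Limits AlgebraicGeometry MonoidalCategory CartesianMonoidalCategory MonObj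
open Groth.L25 Groth.L14 Groth.L15.TypeRLe

noncomputable section

namespace Groth.L15.Levi

variable {S : Scheme.{u}}

/-- A universal unipotent radical exists etale-locally at the point. -/
def LocalRad (P : Over S) [GrpObj P] (s : S) : Prop :=
  ∃ (V : Scheme.{u}) (f : V ⟶ S) (_ : Etale f) (v : V), f v = s ∧
    ∃ (U : Over V) (_ : GrpObj U) (u : U ⟶ Red.bc f P),
      IsMonHom u ∧ IsClosedImmersion u.left ∧ Smooth U.hom ∧ IsRadBC u

theorem localRad_bc {P : Over S} [GrpObj P] {V : Scheme.{u}} (f : V ⟶ S) [Etale f] {v : V}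
    (h : LocalRad (Red.bc f P) v) : LocalRad P (f v) := by
  obtain ⟨W, g, hg, w, rfl, U, gU, u, hu, hcl, hs, hrad⟩ := h
  haveI := hg; haveI := hu; haveI := hcl
  let b := ActBC.bcCompIso g f P (rfl : g ≫ f = g ≫ f)
  haveI : IsMonHom b.hom := ActBC.bcCompIso_isMonHom (G := P) _ _ _
  haveI : IsIso b.hom.left := inferInstanceAs (IsIso ((Over.forget _).map b.hom))
  haveI : IsMonHom (Iso.refl U).hom := inferInstanceAs (IsMonHom (𝟙 _))
  exact ⟨W, g ≫ f, inferInstance, w, Scheme.Hom.comp_apply _ _ _, U, gU, u ≫ b.hom, inferInstance,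
    by rw [Over.comp_left]; infer_instance, hs, hrad.congr _ (Iso.refl U) b (Category.id_comp _)⟩

variable {G P : Over S} [GrpObj G] [GrpObj P]

/-- Universal unipotent radicals exist etale-locally. -/
theorem localRad (hG : Red.IsReductive G) (p : P ⟶ G) (hP : Red.IsParabolic p) (s : S) : LocalRad P s := by
  haveI := hP.1
  obtain ⟨V₁, f₁, hf₁, ⟨v₁, hv₁⟩, T, gT, t, htm, hT⟩ :=
    Groth.L15.TypeRConj.exists_maxTorus hG p (isTypeR_parabolic hG hP) s
  haveI := hf₁; haveI := htm
  have hG₁ := Groth.L14.Splitting.isReductive_bc hG f₁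
  have hP₁ := isParabolic_bc hG hP f₁
  obtain ⟨V, f, hf, W, w, hw, D, t', e, R', hm, -, ht', hR⟩ :=
    exists_local_datum hG₁ ((Over.pullback f₁).map p) hP₁ t hT v₁
  haveI := hf; haveI := hm
  haveI : Nonempty W.toScheme := ⟨w⟩
  have hP₂ := isParabolic_bc (Groth.L14.Splitting.isReductive_bc hG₁ f) (isParabolic_bc hG₁ hP₁ f) W.ι
  obtain ⟨L, gL, l, -, tL, U, gU, u, -, -, -, hu, hrad, -, hspan, -⟩ := exists_levi_split D hP₂ t' ht' hR
  haveI := hu; haveI := hrad.2.1; haveI := hrad.2.2.2.1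
  have h0 : LocalRad (Red.bc W.ι (Red.bc f (Red.bc f₁ P))) w := by
    let b := asIso (𝟙 (Red.bc W.ι (Red.bc f (Red.bc f₁ P))))
    refine ⟨_, 𝟙 _, inferInstance, w, rfl, ?_⟩
    haveI := Groth.L25.MonoClosed.isMonHom_pullbackMap (𝟙 W.toScheme) u
    exact ⟨Red.bc (𝟙 _) U, inferInstance, (Over.pullback (𝟙 _)).map u, inferInstance,
      MorphismProperty.overPullbackMap (P := @IsClosedImmersion) _ u hrad.2.1,
      MorphismProperty.pullback_snd (P := @Smooth) _ _ hrad.2.2.2.1,
      (isRadBC_of_span D hP₂ t' ht' hR u hspan).bc _⟩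
  have h1 := localRad_bc f (localRad_bc W.ι h0)
  rw [hw] at h1
  have h2 := localRad_bc f₁ h1
  rwa [show f₁ v₁ = s from hv₁] at h2

/-- **A parabolic subgroup has a universal unipotent radical.** -/
theorem exists_radical (hG : Red.IsReductive G) (p : P ⟶ G) (hP : Red.IsParabolic p) :
    ∃ (U : Over S) (_ : GrpObj U) (u : U ⟶ P),
      IsMonHom u ∧ IsClosedImmersion u.left ∧ Smooth U.hom ∧ IsRadBC u := by
  classical
  haveI := hP.2.1; haveI := hG.1
  haveI : IsAffineHom P.hom := by rw [← Over.w p]; infer_instance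
  choose V f hf v hv U gU u hu hcl hs hrad using localRad hG p hP
  let π : (∐ V) ⟶ S := Sigma.desc f
  haveI : Etale π := IsZariskiLocalAtSource.sigmaDesc (P := @Etale) hf
  haveI : Surjective π := ⟨fun x => ⟨Sigma.ι V x (v x), by
    rw [← Scheme.Hom.comp_apply, Sigma.ι_desc]; exact hv x⟩⟩
  letI : ∀ i, GrpObj (U i) := gU
  let ψ : ∀ i, Red.bc (Sigma.ι V i) (Red.bc π P) ≅ Red.bc (f i) P := fun i =>
    ActBC.bcCompIso (Sigma.ι V i) π P (Sigma.ι_desc f i)
  haveI hψ : ∀ i, IsMonHom (ψ i).hom := fun i => ActBC.bcCompIso_isMonHom (G := P) _ _ _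
  haveI hψ' : ∀ i, IsMonHom (ψ i).inv := fun i => isMonHom_inv' (ψ i)
  haveI : ∀ i, IsIso (ψ i).inv.left := fun i => inferInstanceAs (IsIso ((Over.forget _).map (ψ i).inv))
  let c : ∀ i, U i ⟶ Red.bc (Sigma.ι V i) (Red.bc π P) := fun i => u i ≫ (ψ i).inv
  have hcm : ∀ i, IsMonHom (c i) := fun i => by haveI : IsMonHom (u i) := hu i; haveI : IsMonHom (ψ i).inv := hψ' i; exact inferInstanceAs (IsMonHom (u i ≫ (ψ i).inv))
  have hcc : ∀ i, IsClosedImmersion (c i).left := fun i => by
    haveI := hcl i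
    exact inferInstanceAs (IsClosedImmersion ((u i).left ≫ (ψ i).inv.left))
  obtain ⟨D, gD, d, hd, hdm, hDs, hDe⟩ := Groth.L08.Borel.exists_subgroup_sigma (Red.bc π P) U c hcm
    (fun i => by haveI := hcc i; exact Over.mono_of_mono_left _)
  haveI := hd; haveI := hdm
  haveI : Smooth D.hom := hDs hs
  haveI : IsAffineHom (Red.bc π P).hom := MorphismProperty.pullback_snd (P := @IsAffineHom) _ _ ‹_›
  have hdι : ∀ i, IsClosedImmersion ((Over.pullback (Sigma.ι V i)).map d).left := fun i => by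
    obtain ⟨e, -, he⟩ := hDe i
    haveI := hcc i
    haveI : IsIso e.hom.left := inferInstanceAs (IsIso ((Over.forget _).map e.hom))
    rw [← he, Over.comp_left]; infer_instance
  haveI : IsClosedImmersion d.left := by
    refine (IsZariskiLocalAtTarget.iff_of_openCover (P := @IsClosedImmersion)
      ((sigmaOpenCover V).pullback₁ (Red.bc π P).hom)).2 fun i => ?_
    show IsClosedImmersion (pullback.snd d.left (pullback.fst (Red.bc π P).hom (Sigma.ι V i)))
    have hsq : IsPullback (pullback.fst D.hom (Sigma.ι V i)) ((Over.pullback (Sigma.ι V i)).map d).left d.left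
        (pullback.fst (Red.bc π P).hom (Sigma.ι V i)) := by
      refine IsPullback.of_bot ?_ (pullback.lift_fst _ _ _).symm (IsPullback.of_hasPullback (Red.bc π P).hom _)
      rw [show ((Over.pullback (Sigma.ι V i)).map d).left ≫ pullback.snd (Red.bc π P).hom (Sigma.ι V i) =
        pullback.snd D.hom (Sigma.ι V i) from pullback.lift_snd _ _ _, Over.w d]
      exact IsPullback.of_hasPullback D.hom _
    rw [← hsq.isoPullback_inv_snd]
    exact (MorphismProperty.cancel_left_of_respectsIso _ _ _).2 (hdι i)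
  have hD : IsRadBC d := by
    refine isRadBC_of_local d fun x => ?_
    obtain ⟨i, y, hy⟩ := Scheme.Cover.exists_eq (sigmaOpenCover V) x
    refine ⟨V i, Sigma.ι V i, inferInstance, ⟨y, hy⟩, ?_⟩
    obtain ⟨e, he', he⟩ := hDe i
    haveI := he'; haveI := hu i
    haveI : IsMonHom e.symm.hom := isMonHom_inv' e
    haveI : IsMonHom (ψ i).symm.hom := hψ' i
    refine (hrad i).congr _ e.symm (ψ i).symm ?_
    show e.inv ≫ (Over.pullback (Sigma.ι V i)).map d = u i ≫ (ψ i).inv
    rw [← he, Iso.inv_hom_id_assoc]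
  obtain ⟨U₀, gU₀, u₀, hu₀, hu₀c, φ, hφm, hφ⟩ := exists_closedSubgroup_desc d
    (fun W hW => cover_of_etale W hW) fun Y p₁ p₂ h => by
      have key : ∀ (q : Y ⟶ ∐ V) (hq : q ≫ π = p₁ ≫ π), Par.IsUnipotentRadical (Groth.L25.Descent.pullInc d q hq) := by
        intro q hq
        haveI : IsMonHom (ActBC.bcCompIso q π P hq).hom := ActBC.bcCompIso_isMonHom (G := P) _ _ _
        haveI : IsMonHom (Iso.refl (Red.bc q D)).hom := inferInstanceAs (IsMonHom (𝟙 _))
        exact isUnipotentRadical_congr _ _ (Iso.refl _) (ActBC.bcCompIso q π P hq) (Category.id_comp _) (hD.out q)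
      obtain ⟨e, -, he⟩ := radical_unique (key p₂ h.symm) (key p₁ rfl)
      exact ⟨e, he⟩
  haveI := hu₀; haveI := hu₀c; haveI := hφm
  haveI hU₀ : Smooth U₀.hom := by
    refine Groth.L25.FpqcLocal.of_fpqc (P := @Smooth) U₀.hom (𝟙 S) π (fun W hW => cover_of_etale W hW)
      fun x => ⟨⊤, trivial, Groth.L25.FpqcLocal.bc_comp U₀.hom
        (pullback.snd (𝟙 S) ((⊤ : Scheme.Opens _).ι ≫ π) ≫ (⊤ : Scheme.Opens _).ι) π
        (pullback.fst (𝟙 S) ((⊤ : Scheme.Opens _).ι ≫ π))
        (by rw [Category.assoc, ← pullback.condition, Category.comp_id]) ?_⟩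
    haveI : IsIso φ.hom.left := inferInstanceAs (IsIso ((Over.forget _).map φ.hom))
    show Smooth (Red.bc π U₀).hom
    rw [← Over.w φ.hom]
    infer_instance
  refine ⟨U₀, gU₀, u₀, hu₀, hu₀c, hU₀, isRadBC_of_local u₀ fun x => ?_⟩
  obtain ⟨y, hy⟩ := π.surjective x
  refine ⟨_, π, inferInstance, ⟨y, hy⟩, ?_⟩
  haveI : IsMonHom φ.symm.hom := isMonHom_inv' φ
  haveI : IsMonHom (Iso.refl (Red.bc π P)).hom := inferInstanceAs (IsMonHom (𝟙 _))
  refine hD.congr _ φ.symm (Iso.refl _) ?_
  show φ.inv ≫ (Over.pullback π).map u₀ = d ≫ 𝟙 _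
  rw [← hφ, Iso.inv_hom_id_assoc, Category.comp_id]

end Groth.L15.Levi

end
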