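import Groth.Agent.L15.Levi.Pow
import Groth.Agent.L15.Levi.Rad
import Groth.Agent.L08.Borel.SigmaSub

/-!
Semidirect decompositions: the retraction, base change, gluing over disjoint unions.
-/

set_option autoImplicit false
set_option linter.style.haveILetI false
set_option linter.unusedSectionVars false
set_option backward.isDefEq.respectTransparency.types false
set_option maxHeartbeats 1000000
universe u

open CategoryTheory CategoryTheory.Limits AlgebraicGeometry MonoidalCategory CartesianMonoidalCategory MonObj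
open Groth.L25 Groth.L14

noncomputable section

namespace Groth.L15.Levi

variable {S : Scheme.{u}} {P L U : Over S} [GrpObj P] [GrpObj L] [GrpObj U]

/-- the retraction of a semidirect product onto its complement -/
def retr (l : L ⟶ P) (u : U ⟶ P) [IsIso ((l ⊗ₘ u) ≫ μ[P])] : P ⟶ L := inv ((l ⊗ₘ u) ≫ μ[P]) ≫ fst L U

/-- the component along the normal subgroup -/
def retrU (l : L ⟶ P) (u : U ⟶ P) [IsIso ((l ⊗ₘ u) ≫ μ[P])] : P ⟶ U := inv ((l ⊗ₘ u) ≫ μ[P]) ≫ snd L U

variable (l : L ⟶ P) (u : U ⟶ P) [IsIso ((l ⊗ₘ u) ≫ μ[P])]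

theorem lift_theta {X : Over S} (a : X ⟶ L) (b : X ⟶ U) : lift a b ≫ (l ⊗ₘ u) ≫ μ[P] = (a ≫ l) * (b ≫ u) := by
  rw [MonObj.mul_eq_mul, MonObj.comp_mul, tensorHom_fst, tensorHom_snd, MonObj.comp_mul, lift_fst_assoc,
    lift_snd_assoc]

theorem retr_mul {X : Over S} (a : X ⟶ L) (b : X ⟶ U) : ((a ≫ l) * (b ≫ u)) ≫ retr l u = a := by
  rw [← lift_theta, retr, Category.assoc, IsIso.hom_inv_id_assoc, lift_fst]

theorem retrU_mul {X : Over S} (a : X ⟶ L) (b : X ⟶ U) : ((a ≫ l) * (b ≫ u)) ≫ retrU l u = b := by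
  rw [← lift_theta, retrU, Category.assoc, IsIso.hom_inv_id_assoc, lift_snd]

theorem retr_decomp {X : Over S} (x : X ⟶ P) : (x ≫ retr l u ≫ l) * (x ≫ retrU l u ≫ u) = x := by
  have e : lift (x ≫ retr l u) (x ≫ retrU l u) = x ≫ inv ((l ⊗ₘ u) ≫ μ[P]) := by
    apply CartesianMonoidalCategory.hom_ext <;> simp [retr, retrU]
  rw [← Category.assoc x, ← Category.assoc x, ← lift_theta, e, Category.assoc, IsIso.inv_hom_id, Category.comp_id]

theorem l_retr [IsMonHom l] [IsMonHom u] : l ≫ retr l u = 𝟙 L := by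
  have h := retr_mul l u (𝟙 L) (1 : L ⟶ U)
  rwa [MonObj.one_comp, _root_.mul_one, Category.id_comp] at h

theorem u_retr [IsMonHom l] [IsMonHom u] : u ≫ retr l u = 1 := by
  have h := retr_mul l u (1 : U ⟶ L) (𝟙 U)
  rwa [MonObj.one_comp, _root_.one_mul, Category.id_comp] at h

theorem retr_mul_right [IsMonHom u] {X : Over S} (x : X ⟶ P) (n : X ⟶ U) :
    (x * (n ≫ u)) ≫ retr l u = x ≫ retr l u := by
  conv_lhs => rw [← retr_decomp l u x, _root_.mul_assoc, ← Category.assoc x, ← Category.assoc x, ← MonObj.mul_comp,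
    retr_mul]

theorem exists_of_retr_eq [IsMonHom l] {X : Over S} (x : X ⟶ P) (h : x ≫ retr l u = 1) :
    ∃ n : X ⟶ U, n ≫ u = x := by
  refine ⟨x ≫ retrU l u, ?_⟩
  conv_rhs => rw [← retr_decomp l u x]
  rw [← Category.assoc x (retr l u), h, MonObj.one_comp, _root_.one_mul, Category.assoc]

theorem isMonHom_retr [IsMonHom l] [IsMonHom u] (hn : AlgGrp.IsNormalHom u) : IsMonHom (retr l u) :=
  Groth.L25.Bridge.isMonHom_of_mul _ fun X x y => by
    obtain ⟨n, hn'⟩ := hn X (y ≫ retr l u ≫ l)⁻¹ (x ≫ retrU l u)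
    rw [_root_.inv_inv, Category.assoc] at hn'
    have e : x * y = (((x ≫ retr l u) * (y ≫ retr l u)) ≫ l) * ((n * (y ≫ retrU l u)) ≫ u) := by
      conv_lhs => rw [← retr_decomp l u x, ← retr_decomp l u y]
      rw [MonObj.mul_comp, MonObj.mul_comp, ← hn']
      simp only [Category.assoc]
      group
    rw [e, retr_mul]

variable {V : Scheme.{u}} (j : V ⟶ S)

theorem isIso_theta_bc : IsIso (((Over.pullback j).map l ⊗ₘ (Over.pullback j).map u) ≫ μ) := by
  let F := Over.pullback j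
  let B : Red.bc j (L ⊗ U) ≅ Red.bc j L ⊗ Red.bc j U :=
    { hom := lift (F.map (fst L U)) (F.map (snd L U))
      inv := bcLift j (fst _ _) (snd _ _)
      hom_inv_id := bc_hom_ext j (by rw [Category.assoc, bcLift_fst, lift_fst, Category.id_comp])
        (by rw [Category.assoc, bcLift_snd, lift_snd, Category.id_comp])
      inv_hom_id := CartesianMonoidalCategory.hom_ext _ _ (by
        rw [Category.assoc, lift_fst, bcLift_fst, Category.id_comp]) (by
        rw [Category.assoc, lift_snd, bcLift_snd, Category.id_comp]) }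
  have e1 : F.map ((l ⊗ₘ u) ≫ μ[P]) = B.hom ≫ (F.map l ⊗ₘ F.map u) ≫ μ := by
    rw [MonObj.mul_eq_mul, MonObj.comp_mul, tensorHom_fst, tensorHom_snd]
    conv_rhs => rw [MonObj.mul_eq_mul, MonObj.comp_mul, MonObj.comp_mul, tensorHom_fst, tensorHom_snd]
    refine (map_mul (Functor.homMonoidHom F) _ _).trans ?_
    show F.map (fst L U ≫ l) * F.map (snd L U ≫ u) = _
    simp only [B, lift_fst_assoc, lift_snd_assoc, F.map_comp]
  haveI : IsIso (F.map ((l ⊗ₘ u) ≫ μ[P])) := inferInstance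
  haveI : IsIso (B.hom ≫ (F.map l ⊗ₘ F.map u) ≫ μ) := by rw [← e1]; infer_instance
  exact @IsIso.of_isIso_comp_left _ _ _ _ _ B.hom _ (Iso.isIso_hom B) ‹_›

theorem isIso_theta_of_bc {L U : Over S} [GrpObj L] [GrpObj U] (l : L ⟶ P) (u : U ⟶ P)
    (h : IsIso (((Over.pullback j).map l ⊗ₘ (Over.pullback j).map u) ≫ μ)) :
    IsIso ((Over.pullback j).map ((l ⊗ₘ u) ≫ μ[P])) := by
  let F := Over.pullback j
  let B : Red.bc j (L ⊗ U) ≅ Red.bc j L ⊗ Red.bc j U :=
    { hom := lift (F.map (fst L U)) (F.map (snd L U))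
      inv := bcLift j (fst _ _) (snd _ _)
      hom_inv_id := bc_hom_ext j (by rw [Category.assoc, bcLift_fst, lift_fst, Category.id_comp])
        (by rw [Category.assoc, bcLift_snd, lift_snd, Category.id_comp])
      inv_hom_id := CartesianMonoidalCategory.hom_ext _ _ (by
        rw [Category.assoc, lift_fst, bcLift_fst, Category.id_comp]) (by
        rw [Category.assoc, lift_snd, bcLift_snd, Category.id_comp]) }
  have e1 : F.map ((l ⊗ₘ u) ≫ μ[P]) = B.hom ≫ (F.map l ⊗ₘ F.map u) ≫ μ := by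
    rw [MonObj.mul_eq_mul, MonObj.comp_mul, tensorHom_fst, tensorHom_snd]
    conv_rhs => rw [MonObj.mul_eq_mul, MonObj.comp_mul, MonObj.comp_mul, tensorHom_fst, tensorHom_snd]
    refine (map_mul (Functor.homMonoidHom F) _ _).trans ?_
    show F.map (fst L U ≫ l) * F.map (snd L U ≫ u) = _
    simp only [B, lift_fst_assoc, lift_snd_assoc, F.map_comp]
  rw [e1]
  exact @IsIso.comp_isIso _ _ _ _ _ _ _ (Iso.isIso_hom B) h

/-- Semidirect decompositions transported along isomorphisms. -/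
theorem isIso_theta_congr {P' L' U' : Over S} [GrpObj P'] [GrpObj L'] [GrpObj U'] (l' : L' ⟶ P') (u' : U' ⟶ P')
    (a : L ≅ L') (c : U ≅ U') (b : P ≅ P') [IsMonHom b.hom] (hl : a.hom ≫ l' = l ≫ b.hom)
    (hu : c.hom ≫ u' = u ≫ b.hom) : IsIso ((l' ⊗ₘ u') ≫ μ[P']) := by
  have e : (a.hom ⊗ₘ c.hom) ≫ (l' ⊗ₘ u') ≫ μ[P'] = ((l ⊗ₘ u) ≫ μ[P]) ≫ b.hom := by
    rw [← Category.assoc, tensorHom_comp_tensorHom, hl, hu, MonObj.mul_eq_mul, MonObj.comp_mul,
      tensorHom_fst, tensorHom_snd, MonObj.mul_eq_mul, MonObj.comp_mul, tensorHom_fst, tensorHom_snd,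
      MonObj.mul_comp, Category.assoc, Category.assoc]
  haveI : IsIso ((a.hom ⊗ₘ c.hom) ≫ (l' ⊗ₘ u') ≫ μ[P']) := by rw [e]; infer_instance
  exact IsIso.of_isIso_comp_left (a.hom ⊗ₘ c.hom) _

omit [GrpObj P] [GrpObj L] [GrpObj U] in
/-- a property of morphisms local on the target is read on the summands of a disjoint union -/
theorem of_sigma {κ : Type u} {V : κ → Scheme.{u}} {X Y : Over (∐ V)} (Q : MorphismProperty Scheme.{u})
    [IsZariskiLocalAtTarget Q] (m : X ⟶ Y) (h : ∀ i, Q ((Over.pullback (Sigma.ι V i)).map m).left) : Q m.left := by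
  refine (IsZariskiLocalAtTarget.iff_of_openCover (P := Q) ((sigmaOpenCover V).pullback₁ Y.hom)).2 fun i => ?_
  show Q (pullback.snd m.left (pullback.fst Y.hom (Sigma.ι V i)))
  have hsq : IsPullback (pullback.fst X.hom (Sigma.ι V i)) ((Over.pullback (Sigma.ι V i)).map m).left m.left
      (pullback.fst Y.hom (Sigma.ι V i)) := by
    refine IsPullback.of_bot ?_ (pullback.lift_fst _ _ _).symm (IsPullback.of_hasPullback Y.hom _)
    rw [show ((Over.pullback (Sigma.ι V i)).map m).left ≫ pullback.snd Y.hom (Sigma.ι V i) =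
      pullback.snd X.hom (Sigma.ι V i) from pullback.lift_snd _ _ _, Over.w m]
    exact IsPullback.of_hasPullback X.hom _
  rw [← hsq.isoPullback_inv_snd]
  exact (MorphismProperty.cancel_left_of_respectsIso _ _ _).2 (h i)

end Groth.L15.Levi

end
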