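import Groth.Agent.L15.Levi.Split
import Groth.Agent.L15.Levi.Rad
import Groth.Agent.L14.BorelLoc.BorelBC

/-!
The unipotent radical of the split decomposition is universal.
-/

set_option autoImplicit false
set_option linter.style.haveILetI false
set_option linter.unusedSectionVars false
set_option backward.isDefEq.respectTransparency.types false
set_option maxHeartbeats 1600000
universe u

open CategoryTheory CategoryTheory.Limits AlgebraicGeometry MonoidalCategory CartesianMonoidalCategory MonObj
open Groth.L25 Groth.L14 Groth.L14.RankOne Groth.L14.Chart Groth.L14.TypeR Groth.L14.BorelLoc Groth.L14.Chev.Cell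
open Groth.L15.TypeRLe

noncomputable section

namespace Groth.L15.Levi

variable {S : Scheme.{u}} {G P : Over S} [GrpObj G] [GrpObj P]

/-- Parabolic subgroups are stable under base change. -/
theorem isParabolic_bc (hG : Red.IsReductive G) {p : P ⟶ G} (hP : Red.IsParabolic p) {V : Scheme.{u}} (j : V ⟶ S) :
    Red.IsParabolic ((Over.pullback j).map p) := by
  haveI := hP.1; haveI := hP.2.1; haveI := hP.2.2.1
  haveI : IsMonHom ((Over.pullback j).map p) := Groth.L25.MonoClosed.isMonHom_pullbackMap _ _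
  refine ⟨inferInstance, MorphismProperty.overPullbackMap (P := @IsClosedImmersion) _ _ hP.2.1,
    MorphismProperty.pullback_snd (P := @Smooth) _ _ hP.2.2.1, fun v => ?_⟩
  obtain ⟨θ, hθ⟩ := Groth.L08.Borel.exists_geomPt_map j v
  haveI := (hG.2.2 (j v)).1; haveI := (hG.2.2 (j v)).2.1; haveI := (hG.2.2 (j v)).2.2.1
  obtain ⟨hm, hc, hs, B, gB, b, hb⟩ := hP.2.2.2 (j v)
  haveI := hm; haveI := hc; haveI := hs
  let eG := Groth.L08.Borel.fibreIso j θ hθ G
  let eP := Groth.L08.Borel.fibreIso j θ hθ P
  haveI : IsMonHom eG.symm.hom := (Groth.L08.Borel.isMonHom_fibreIso j θ hθ G).2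
  haveI : IsMonHom eG.symm.inv := (Groth.L08.Borel.isMonHom_fibreIso j θ hθ G).1
  let F := Over.pullback (Red.geomPt v)
  have hFp : IsMonHom (F.map ((Over.pullback j).map p)) := Groth.L25.MonoClosed.isMonHom_pullbackMap _ _
  refine ⟨hFp, MorphismProperty.overPullbackMap (P := @IsClosedImmersion) _ _
    (MorphismProperty.overPullbackMap (P := @IsClosedImmersion) _ _ hP.2.1),
    MorphismProperty.pullback_snd (P := @Smooth) _ _ (MorphismProperty.pullback_snd (P := @Smooth) _ _ hP.2.2.1),
    Red.bc θ B, inferInstance, (Over.pullback θ).map b ≫ eP.inv, ?_⟩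
  have h := Groth.L14.BorelLoc.isBorelOver_target (Groth.L14.BorelLoc.isBorelOver_bc hb θ) eG.symm
  convert h using 1
  rw [Category.assoc, Iso.symm_hom, Functor.map_comp, Category.assoc]
  congr 1
  rw [Iso.inv_comp_eq, ← Category.assoc, Iso.eq_comp_inv]
  exact Groth.L08.Borel.fibreIso_naturality j θ hθ p

variable (D : Red.SplitRed G) {p : P ⟶ G} [IsMonHom p] {R' : Set D.idx}

/-- Constant roots pass to base changes. -/
theorem constRoots_bc [Nonempty S] (hP : Red.IsParabolic p) (hR : ConstRoots D p R') {V : Scheme.{u}} (j : V ⟶ S)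
    [IsMonHom ((Over.pullback j).map p)] : ConstRoots (splitBC j D) ((Over.pullback j).map p) R' := by
  intro v c
  obtain ⟨b⟩ := Groth.L14.AlmostSimple.exists_base D
  obtain ⟨n, en, hen⟩ := exists_enum (D := D) (RedSub.negRoots D.P b)
  obtain ⟨m, ep, hep⟩ := exists_enum (D := D) (RedSub.posRoots D.P b)
  haveI := hP.2.2.1
  haveI := hP.2.1
  exact (tanAt_bc_geomPt (D := D) hen hep j inferInstance v c).trans (hR _ c)

/-- The span of the asymmetric root groups passes to base changes. -/
theorem hasSpan_bc {U : Over S} {u : U ⟶ P} (h : HasSpan D p R' u) {V : Scheme.{u}} (j : V ⟶ S) :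
    HasSpan (splitBC j D) ((Over.pullback j).map p) R' ((Over.pullback j).map u) := by
  intro m e he
  obtain ⟨ψ, hψ⟩ := h (m := m) e he
  obtain ⟨em, hem⟩ := exists_powBC_root j D e
  refine ⟨em ≪≫ (Over.pullback j).mapIso ψ, ?_⟩
  show (em.hom ≫ (Over.pullback j).map ψ.hom) ≫ (Over.pullback j).map u ≫ (Over.pullback j).map p = _
  rw [← hem, ← hψ, Category.assoc, Functor.map_comp, Functor.map_comp]

/-- Two subgroups with the same span are isomorphic. -/
theorem iso_of_span {U U' : Over S} [GrpObj U] [GrpObj U'] (u : U ⟶ P) (u' : U' ⟶ P) [IsMonHom u] [IsMonHom u']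
    [Mono u'] [Mono p] (h : HasSpan D p R' u) (h' : HasSpan D p R' u') :
    ∃ e : U ≅ U', IsMonHom e.hom ∧ e.hom ≫ u' = u := by
  obtain ⟨m, e, he⟩ := exists_enum (D := D) (asymPart D R')
  obtain ⟨ψ, hψ⟩ := h e he
  obtain ⟨ψ', hψ'⟩ := h' e he
  have hc : (ψ.symm ≪≫ ψ').hom ≫ u' = u := by
    rw [← cancel_mono p, Iso.trans_hom, Iso.symm_hom, Category.assoc, Category.assoc, hψ', ← hψ, Iso.inv_hom_id_assoc]
  exact ⟨ψ.symm ≪≫ ψ', Groth.L08.TorusWeights.isMonHom_of_mono _ u' u hc, hc⟩

/-- **The unipotent radical of the split decomposition is universal.** -/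
theorem isRadBC_of_span [Nonempty S] (hP : Red.IsParabolic p) (t : D.T ⟶ P) (ht : t ≫ p = D.i)
    (hR : ConstRoots D p R') {U : Over S} [GrpObj U] (u : U ⟶ P) [IsMonHom u] [IsClosedImmersion u.left]
    [Smooth U.hom] (hspan : HasSpan D p R' u) : IsRadBC u := by
  refine ⟨fun {V} j => ?_⟩
  haveI := hP.2.1
  haveI : IsAffineHom P.hom := by
    haveI := D.reductive.1
    rw [← Over.w p]; infer_instance
  let F := Over.pullback j
  haveI : IsMonHom (F.map u) := Groth.L25.MonoClosed.isMonHom_pullbackMap _ _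
  haveI : IsMonHom (F.map p) := Groth.L25.MonoClosed.isMonHom_pullbackMap _ _
  haveI : IsClosedImmersion (F.map u).left :=
    MorphismProperty.overPullbackMap (P := @IsClosedImmersion) j u ‹IsClosedImmersion u.left›
  haveI : IsAffineHom (Red.bc j P).hom := MorphismProperty.pullback_snd (P := @IsAffineHom) _ _ ‹_›
  haveI : Smooth (Red.bc j U).hom := MorphismProperty.pullback_snd (P := @Smooth) _ _ ‹Smooth U.hom›
  refine isRadical_of_local _ fun x => ?_
  let k := V.fromSpecStalk x
  refine ⟨_, k, Groth.L15.OmegaGen.flat_fromSpecStalk x,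
    ⟨IsLocalRing.closedPoint _, Scheme.fromSpecStalk_closedPoint⟩, ?_⟩
  haveI : Nonempty ↥(Spec (V.presheaf.stalk x)) := ⟨IsLocalRing.closedPoint _⟩
  haveI : Nonempty V := ⟨x⟩
  let K := Over.pullback k
  haveI : IsMonHom (K.map (F.map p)) := Groth.L25.MonoClosed.isMonHom_pullbackMap _ _
  haveI : IsMonHom (K.map (F.map u)) := Groth.L25.MonoClosed.isMonHom_pullbackMap _ _
  haveI : Mono (K.map (F.map p)) := by
    haveI : Mono p := Groth.L08.mono_of_closedImmersion p
    haveI : Mono (F.map p) := Functor.map_mono _ _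
    exact Functor.map_mono _ _
  have hPj := isParabolic_bc D.reductive hP j
  have hPk := isParabolic_bc (splitBC j D).reductive hPj k
  have htj : F.map t ≫ F.map p = (splitBC j D).i := (F.map_comp t p).symm.trans (congrArg F.map ht)
  obtain ⟨L, gL, l, -, tL, U₂, gU₂, u₂, -, -, -, hu₂, hrad, -, hspan₂, -⟩ :=
    exists_levi_split (splitBC k (splitBC j D)) hPk (K.map (F.map t))
      ((K.map_comp _ _).symm.trans (congrArg K.map htj)) (constRoots_bc _ hPj (constRoots_bc D hP hR j) k)
  haveI := hu₂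
  haveI : IsClosedImmersion (K.map (F.map u)).left :=
    MorphismProperty.overPullbackMap (P := @IsClosedImmersion) k _ ‹IsClosedImmersion (F.map u).left›
  haveI : Mono (K.map (F.map u)) := Groth.L08.mono_of_closedImmersion _
  obtain ⟨e, he₁, he⟩ := iso_of_span (splitBC k (splitBC j D)) u₂ (K.map (F.map u)) hspan₂
    (hasSpan_bc _ (hasSpan_bc D hspan j) k)
  haveI := he₁
  haveI : IsMonHom (Iso.refl (Red.bc k (Red.bc j P))).hom := inferInstanceAs (IsMonHom (𝟙 _))
  exact isUnipotentRadical_congr u₂ _ e (Iso.refl _) (by rw [he]; exact (Category.comp_id _).symm) hrad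

end Groth.L15.Levi

end
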