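import Groth.Agent.L15.Levi.StalkIso
import Groth.Agent.L15.Levi.Pow
import Groth.Agent.L15.Levi.Basic
import Groth.Agent.L15.Levi.Cochar
import Groth.Agent.L15.Levi.Props
import Groth.Agent.L14.TypeR.LeviMain
import Groth.Agent.L14.RootGrp.Main
import Groth.Agent.S16638

/-!
The Levi decomposition of a parabolic subgroup containing the torus of a split group, the roots being constant.
-/

set_option autoImplicit false
set_option linter.style.haveILetI false
set_option linter.unusedSectionVars false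
set_option backward.isDefEq.respectTransparency.types false
set_option maxHeartbeats 1600000
universe u

open CategoryTheory CategoryTheory.Limits AlgebraicGeometry MonoidalCategory CartesianMonoidalCategory MonObj
open Groth.L25 Groth.L14 Groth.L14.RankOne Groth.L14.Chart Groth.L14.TypeR Groth.L14.BorelLoc Groth.L14.Chev.Cell
open Groth.L15.TypeRLe

noncomputable section

namespace Groth.L15.Levi

variable {S : Scheme.{u}} {G P : Over S} [GrpObj G] [GrpObj P]

/-- `(u : U ⟶ P)` is the product of the root groups of the asymmetric roots. -/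
def HasSpan (D : Red.SplitRed G) (p : P ⟶ G) (R' : Set D.idx) {U : Over S} (u : U ⟶ P) : Prop :=
  ∀ {m : ℕ} (e : Fin m → D.idx), RedSub.Enumerates (asymPart D R') e →
    ∃ ψ : RedSub.pow (Red.Ga S) m ≅ U, ψ.hom ≫ u ≫ p = RedSub.prodMap (Red.Ga S) m (fun k => D.u (e k))

theorem isIso_mul_of_iso {L U U' : Over S} [GrpObj L] (l : L ⟶ P) (u : U ⟶ P) (u' : U' ⟶ P) (ε : U ≅ U')
    (hε : ε.hom ≫ u' = u) (h : IsIso ((l ⊗ₘ u') ≫ μ[P])) : IsIso ((l ⊗ₘ u) ≫ μ[P]) := by
  have e : (l ⊗ₘ u) ≫ μ[P] = (𝟙 L ⊗ₘ ε.hom) ≫ (l ⊗ₘ u') ≫ μ[P] := by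
    rw [← hε, ← Category.assoc (𝟙 L ⊗ₘ ε.hom), tensorHom_comp_tensorHom, Category.id_comp]
  rw [e]; infer_instance

variable (D : Red.SplitRed G) {p : P ⟶ G} [IsMonHom p] {R' : Set D.idx}

/-- **The split Levi decomposition.** -/
theorem exists_levi_split [Nonempty S] (hP : Red.IsParabolic p) (t : D.T ⟶ P) (ht : t ≫ p = D.i)
    (hR : ConstRoots D p R') :
    ∃ (L : Over S) (_ : GrpObj L) (l : L ⟶ P) (_ : IsMonHom l) (tL : D.T ⟶ L) (U : Over S) (_ : GrpObj U) (u : U ⟶ P),
      tL ≫ l = t ∧ IsClosedImmersion l.left ∧ Red.IsReductive L ∧ IsMonHom u ∧ Par.IsUnipotentRadical u ∧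
        IsIso ((l ⊗ₘ u) ≫ μ[P]) ∧ HasSpan D p R' u ∧ (∀ c ∈ symPart D R', ∃ v : Red.Ga S ⟶ L, v ≫ l ≫ p = D.u c) ∧
        (∀ {K : Type u} [Field K] (g : Spec (CommRingCat.of K) ⟶ S) (c : D.idx),
          TanAt D (l ≫ p) g c → c ∈ symPart D R') ∧
        ∃ lam : D.M →+ ℤ, (∀ a ∈ symPart D R', lam (D.P.root a) = 0) ∧ (∀ a ∈ asymPart D R', 0 < lam (D.P.root a)) ∧
          ∃ (Q : Over S) (_ : GrpObj Q) (q : Q ⟶ D.T), IsMonHom q ∧ Mono q ∧ Red.IsTorus Q ∧
            Red.IsCentralizerOf (q ≫ D.i) (l ≫ p) ∧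
              ∀ (X : Over S) (a : X ⟶ Red.DS S ℤ), ∃ b : X ⟶ Q, b ≫ q = a ≫ coch D lam := by
  classical
  haveI := hP.1; haveI := hP.2.1; haveI := hP.2.2.1
  haveI := D.reductive.1; haveI := D.reductive.2.1
  haveI := isMonHom_i (D := D)
  haveI : ∀ c, IsMonHom (D.u c) := fun c => (D.rootHom c).1
  haveI : Mono p := Groth.L08.mono_of_closedImmersion p
  have hG := D.reductive
  have hPR := isTypeR_parabolic hG hP
  haveI := hPR.2.2.1
  have hh : IsImmersion p.left := inferInstance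
  obtain ⟨hcl, hfull⟩ := roots_of_const hP t ht hR
  obtain ⟨lam, hl0, hlp⟩ := exists_lam_levi hcl
  have hzero : ∀ c, lam (D.P.root c) = 0 → c ∈ symPart D R' := fun c hc => by
    by_contra hn
    rcases hfull c with h | h
    · exact (hlp c ⟨h, fun h' => hn ⟨h, h'⟩⟩).ne' hc
    · have ha : opp D c ∈ asymPart D R' := ⟨h, by rw [opp_opp]; exact fun h' => hn ⟨h', h⟩⟩
      have := hlp _ ha
      rw [root_opp, map_neg, hc, neg_zero] at this
      exact lt_irrefl _ this
  obtain ⟨Z, gZ, z, hzm, tz, htz, hzcl, hZred, hZR, hzu, hzt, Q, gQ, q, hqm, hqmo, hQ, hzQ, hqfac⟩ :=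
    exists_cochar_centralizer D lam
  haveI := hzm; haveI := hzcl; haveI := hZR.2.1; haveI := hZR.2.2.1
  haveI : Mono z := Groth.L08.mono_of_closedImmersion z
  -- the Levi subgroup lies in the parabolic subgroup
  obtain ⟨b⟩ := Groth.L14.AlmostSimple.exists_base D
  obtain ⟨n, en, hen⟩ := exists_enum (D := D) (RedSub.negRoots D.P b)
  obtain ⟨k, ep, hep⟩ := exists_enum (D := D) (RedSub.posRoots D.P b)
  obtain ⟨l, hl⟩ : ∃ l : Z ⟶ P, l ≫ p = z := by
    obtain ⟨l, hl⟩ := le_of_tanAt (h := z) (h' := p) (inferInstance) hZR.2.2.2.1 hh tz htz t ht (𝟙 S)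
      (fun v c hc => (hR _ c).2 (hzero c (hzt _ c hc)).1) Z ⟨Z.hom, Category.comp_id _⟩ (𝟙 Z)
    exact ⟨l, hl.trans (Category.id_comp z)⟩
  haveI : IsMonHom l := Groth.L08.TorusWeights.isMonHom_of_mono l p z hl
  haveI hlcl : IsClosedImmersion l.left := by
    haveI : IsClosedImmersion (l.left ≫ p.left) := by rw [← Over.comp_left, hl]; infer_instance
    exact IsClosedImmersion.of_comp l.left p.left
  have htl : tz ≫ l = t := (cancel_mono p).1 (by rw [Category.assoc, hl, htz, ht])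
  -- the unipotent radical
  have hasym : ∀ a c e : D.idx, a ∈ asymPart D R' → c ∈ asymPart D R' →
      D.P.root a + D.P.root c = D.P.root e → e ∈ asymPart D R' := fun a c e ha hc h => add_mem_asymPart hcl ha hc.1 h
  have hneg : ∀ a c : D.idx, a ∈ asymPart D R' → D.P.root c = -D.P.root a → c ∉ asymPart D R' := fun a c ha h hc =>
    ha.2 (by rw [show opp D a = c from D.P.root.injective (by rw [root_opp, h])]; exact hc.1)
  obtain ⟨U, gU, v, hvm, hvcl, hUs, hUfib, -, hψ⟩ := Groth.Agent.S16638.result D (asymPart D R') hasym hneg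
  haveI := hvm; haveI := hvcl; haveI := hUs
  haveI : Mono v := Groth.L08.mono_of_closedImmersion v
  obtain ⟨m, e, he⟩ := exists_enum (D := D) (asymPart D R')
  obtain ⟨ψ, hψe⟩ := hψ e he
  have hw : ∀ i : Fin m, ∃ w : Red.Ga S ⟶ P, w ≫ p = D.u (e i) := fun i =>
    exists_rootHom hen hep hh t ht fun x => (hR x _).2 ((mem_list_iff he _).1 (List.mem_ofFn.2 ⟨i, rfl⟩)).1
  choose w hw using hw
  let u : U ⟶ P := ψ.inv ≫ RedSub.prodMap (Red.Ga S) m w
  have hu : u ≫ p = v := by
    rw [Category.assoc, Groth.L14.RootGrp.prodMap_comp p w, funext hw, ← hψe, Iso.inv_hom_id_assoc]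
  haveI : IsMonHom u := Groth.L08.TorusWeights.isMonHom_of_mono u p v hu
  haveI hucl : IsClosedImmersion u.left := by
    haveI : IsClosedImmersion (u.left ≫ p.left) := by rw [← Over.comp_left, hu]; infer_instance
    exact IsClosedImmersion.of_comp u.left p.left
  haveI : IsAffineHom P.hom := by rw [← Over.w p]; infer_instance
  haveI : IsAffineHom U.hom := by rw [← Over.w u]; infer_instance
  have hspan : HasSpan D p R' u := fun e' he' => by
    obtain ⟨ψ', hψ'⟩ := hψ e' he'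
    exact ⟨ψ', by rw [hu, hψ']⟩
  -- over the local rings
  have key : ∀ s : S, ∃ (U₂ : Over (Spec (S.presheaf.stalk s))) (_ : GrpObj U₂)
      (u₂ : U₂ ⟶ Red.bc (S.fromSpecStalk s) P) (ε : Red.bc (S.fromSpecStalk s) U ≅ U₂),
      Par.IsUnipotentRadical u₂ ∧ IsIso (((Over.pullback (S.fromSpecStalk s)).map l ⊗ₘ u₂) ≫ μ) ∧
        ε.hom ≫ u₂ = (Over.pullback (S.fromSpecStalk s)).map u := by
    intro s
    let g := S.fromSpecStalk s
    haveI : PreconnectedSpace ↥(Spec (S.presheaf.stalk s)) := preconnectedSpace_spec _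
    haveI : Nonempty ↥(Spec (S.presheaf.stalk s)) := ⟨IsLocalRing.closedPoint _⟩
    let F := Over.pullback g
    haveI : IsMonHom (F.map p) := Groth.L25.MonoClosed.isMonHom_pullbackMap _ _
    haveI : IsMonHom (F.map z) := Groth.L25.MonoClosed.isMonHom_pullbackMap _ _
    haveI : IsImmersion (F.map p).left := MorphismProperty.overPullbackMap (P := @IsImmersion) g p hh
    haveI : IsImmersion (F.map z).left := MorphismProperty.overPullbackMap (P := @IsImmersion) g z inferInstance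
    haveI : Smooth (Red.bc g P).hom := MorphismProperty.pullback_snd (P := @Smooth) _ _ hP.2.2.1
    haveI : QuasiCompact (Red.bc g P).hom := MorphismProperty.pullback_snd (P := @QuasiCompact) _ _ hPR.2.2.1
    haveI : Smooth (Red.bc g Z).hom := MorphismProperty.pullback_snd (P := @Smooth) _ _ hZR.2.1
    have htp : F.map t ≫ F.map p = (splitBC g D).i := ((F.map_comp t p).symm.trans (congrArg F.map ht))
    have htz' : F.map tz ≫ F.map z = (splitBC g D).i := ((F.map_comp tz z).symm.trans (congrArg F.map htz))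
    have hrP : ∀ a, (∃ v, v ≫ F.map p = (splitBC g D).u a) ↔ a ∈ R' := fun a => by
      refine ((mem_tanRoots_iff (D := splitBC g D) (b := b) hen hep inferInstance (F.map t) htp a).trans
        (mem_tanRoots_bc_iff hen hep g hh a)).trans ⟨fun h => ?_, fun h x => (hR _ a).2 h⟩
      exact (hR _ a).1 (h (IsLocalRing.closedPoint _))
    have hrZ : ∀ a, (∃ v, v ≫ F.map z = (splitBC g D).u a) ↔ a ∈ symPart D R' := fun a => by
      refine ⟨fun ⟨x, hx⟩ => hzero a (hzt (Red.geomPt (g (IsLocalRing.closedPoint _))) a ?_), fun ha => ?_⟩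
      · exact (mem_tanRoots_bc_iff (h := z) hen hep g inferInstance a).1
          (mem_tanRoots_of_hom (D := splitBC g D) (h := F.map z) (b := b) hen hep x hx) (IsLocalRing.closedPoint _)
      · obtain ⟨x, hx⟩ := hzu a (hl0 a ha)
        exact ⟨(Luna.SemiRank.bcGa g).inv ≫ F.map x, by
          rw [Category.assoc, ← F.map_comp, hx]; rfl⟩
    obtain ⟨U₂, gU₂, u₂, -, hrad, hiso, hsp, -⟩ := exists_levi (D := splitBC g D) (R' := R') hcl
      (h' := F.map p) inferInstance (fun x => Extension.isConnected_fibre_bc g P hPR.2.2.2.1 x) (F.map t) htp hrP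
      (h₁ := F.map z) inferInstance (fun x => Extension.isConnected_fibre_bc g Z hZR.2.2.2.1 x) (F.map tz) htz' hrZ
      (F.map l) ((F.map_comp l p).symm.trans (congrArg F.map hl))
    obtain ⟨ψ₂, hψ₂⟩ := hsp e he
    obtain ⟨em, hem⟩ := exists_powBC_root g D e
    let ε : Red.bc g U ≅ U₂ := F.mapIso ψ.symm ≪≫ em.symm ≪≫ ψ₂
    refine ⟨U₂, gU₂, u₂, ε, hrad, hiso, ?_⟩
    haveI : Mono (F.map p) := Functor.map_mono _ _
    refine (cancel_mono (F.map p)).1 ?_
    show ((F.map ψ.inv ≫ em.inv ≫ ψ₂.hom) ≫ u₂) ≫ F.map p = F.map u ≫ F.map p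
    simp only [Category.assoc]
    rw [hψ₂, ← F.map_comp u p, hu, ← hψe, ← hu] at *
    rw [← hem, Iso.inv_hom_id_assoc, ← F.map_comp, hψe, ← hu, Iso.inv_hom_id_assoc]
  have hnormal : AlgGrp.IsNormalHom u := by
    haveI : IsMonHom (fst P U) := inferInstance
    let c : P ⊗ U ⟶ P := fst P U * (snd P U ≫ u) * (fst P U)⁻¹
    obtain ⟨w', hw'⟩ := exists_hom_of_stalks c u fun s => by
      obtain ⟨U₂, _, u₂, ε, hrad, -, hε₀⟩ := key s
      let F := Over.pullback (S.fromSpecStalk s)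
      have hε : ε.hom ≫ u₂ = F.map u := hε₀
      obtain ⟨w₂, hw₂⟩ := hrad.2.2.1 _ (F.map (fst P U)) (F.map (snd P U) ≫ ε.hom)
      refine ⟨w₂ ≫ ε.inv, ?_⟩
      have e1 : F.map c = F.map (fst P U) * F.map (snd P U ≫ u) * (F.map (fst P U))⁻¹ := by
        let φ : (P ⊗ U ⟶ P) →* (F.obj (P ⊗ U) ⟶ F.obj P) := Functor.homMonoidHom F
        show φ (fst P U * (snd P U ≫ u) * (fst P U)⁻¹) = _
        rw [map_mul, map_mul, map_inv]
        rfl
      show (w₂ ≫ ε.inv) ≫ F.map u = F.map c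
      rw [Category.assoc, ← hε, Iso.inv_hom_id_assoc, ← hw₂, e1, Category.assoc, hε, F.map_comp (snd P U) u]
    intro X a x
    refine ⟨lift a x ≫ w', ?_⟩
    rw [Category.assoc, hw']
    simp only [c, MonObj.comp_mul, GrpObj.comp_inv, lift_fst, lift_snd_assoc]
  have hUR : Par.IsUnipotentRadical u := by
    refine ⟨inferInstance, hucl, hnormal, hUs, inferInstance, hUfib, fun U' _ u' _ hu'cl hu'n hu's _ hu'f => ?_⟩
    haveI := hu'cl; haveI := hu's
    refine exists_hom_of_stalks u' u fun s => ?_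
    obtain ⟨U₂, _, u₂, ε, hrad, -, hε₀⟩ := key s
    let g := S.fromSpecStalk s
    let F := Over.pullback g
    haveI : IsMonHom (F.map u') := Groth.L25.MonoClosed.isMonHom_pullbackMap _ _
    haveI : IsAffineHom U'.hom := by rw [← Over.w u']; infer_instance
    have hε : ε.hom ≫ u₂ = F.map u := hε₀
    obtain ⟨f, hf⟩ := hrad.2.2.2.2.2.2 (Red.bc g U') (F.map u')
      (MorphismProperty.overPullbackMap (P := @IsClosedImmersion) g u' hu'cl) (isNormalHom_bc g hu'n)
      (MorphismProperty.pullback_snd (P := @Smooth) _ _ hu's)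
      (MorphismProperty.pullback_snd (P := @QuasiCompact) _ _ inferInstance) (fibres_bc g hu'f)
    exact ⟨f ≫ ε.inv, by rw [Category.assoc, ← hε, Iso.inv_hom_id_assoc, hf]⟩
  haveI hiso : IsIso ((l ⊗ₘ u) ≫ μ[P]) := by
    haveI : Smooth (Z ⊗ U).hom := inferInstanceAs (Smooth (pullback.fst Z.hom U.hom ≫ Z.hom))
    refine isIso_of_stalks _ fun s => ?_
    obtain ⟨U₂, _, u₂, ε, -, hiso, hε₀⟩ := key s
    let g := S.fromSpecStalk s
    let F := Over.pullback g
    have hε : ε.hom ≫ u₂ = F.map u := hε₀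
    let B : Red.bc g (Z ⊗ U) ≅ Red.bc g Z ⊗ U₂ :=
      { hom := lift (F.map (fst Z U)) (F.map (snd Z U) ≫ ε.hom)
        inv := bcLift g (fst _ _) (snd _ _ ≫ ε.inv)
        hom_inv_id := bc_hom_ext g (by rw [Category.assoc, bcLift_fst, lift_fst, Category.id_comp]) (by
          rw [Category.assoc, bcLift_snd, lift_snd_assoc, Category.assoc, Iso.hom_inv_id, Category.comp_id,
            Category.id_comp])
        inv_hom_id := CartesianMonoidalCategory.hom_ext _ _ (by
          rw [Category.assoc, lift_fst, bcLift_fst, Category.id_comp]) (by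
          rw [Category.assoc, lift_snd, reassoc_of% (bcLift_snd g), Category.assoc, Iso.inv_hom_id, Category.comp_id,
            Category.id_comp]) }
    have e1 : F.map ((l ⊗ₘ u) ≫ μ[P]) = B.hom ≫ (F.map l ⊗ₘ u₂) ≫ μ := by
      rw [MonObj.mul_eq_mul, MonObj.comp_mul, tensorHom_fst, tensorHom_snd]
      conv_rhs => rw [MonObj.mul_eq_mul, MonObj.comp_mul, MonObj.comp_mul, tensorHom_fst, tensorHom_snd]
      refine (map_mul (Functor.homMonoidHom F) _ _).trans ?_
      show F.map (fst Z U ≫ l) * F.map (snd Z U ≫ u) = _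
      simp only [B, lift_fst_assoc, lift_snd_assoc, Category.assoc, F.map_comp, hε]
    show IsIso (F.map ((l ⊗ₘ u) ≫ μ[P]))
    rw [e1]; exact @IsIso.comp_isIso _ _ _ _ _ _ _ (Iso.isIso_hom B) hiso
  refine ⟨Z, gZ, l, inferInstance, tz, U, gU, u, htl, hlcl, hZred, inferInstance, hUR, hiso, hspan,
    fun c hc => (hzu c (hl0 c hc)).imp fun x hx => by rw [hl, hx],
    fun {K} _ g c hc => hzero c (hzt g c ?_), lam, hl0, hlp, Q, gQ, q, hqm, hqmo, hQ, by rw [hl]; exact hzQ, hqfac⟩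
  obtain ⟨y, hy⟩ := mem_HP.1 hc
  exact mem_HP.2 ⟨y, by rw [← hl]; exact hy⟩

end Groth.L15.Levi

end
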