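import Groth.Agent.L15.OmegaGen.Light
import Groth.Agent.L20.FibreScheme
import Mathlib.AlgebraicGeometry.Morphisms.UniversallyOpen
import Mathlib.AlgebraicGeometry.Morphisms.Smooth

/-!
A morphism between schemes locally of finite presentation over a base is an isomorphism as soon as it is one over
every local ring of the base.
-/

set_option autoImplicit false
set_option linter.style.haveILetI false
set_option linter.unusedSectionVars false
set_option backward.isDefEq.respectTransparency.types false
universe u

open CategoryTheory CategoryTheory.Limits AlgebraicGeometry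

noncomputable section

namespace Groth.L15.Levi

/-- A flat preimmersion is an isomorphism on local rings. -/
theorem isIso_stalkMap_of_flat {P Q : Scheme.{u}} (g : P ⟶ Q) [Flat g] [IsPreimmersion g] (z : P) :
    IsIso (g.stalkMap z) := by
  refine (ConcreteCategory.isIso_iff_bijective _).2 ⟨?_, g.stalkMap_surjective z⟩
  letI := (g.stalkMap z).hom.toAlgebra
  haveI : Module.Flat (Q.presheaf.stalk (g z)) (P.presheaf.stalk z) := Flat.stalkMap g z
  haveI : IsLocalHom (algebraMap (Q.presheaf.stalk (g z)) (P.presheaf.stalk z)) :=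
    inferInstanceAs (IsLocalHom (g.stalkMap z).hom)
  haveI : Module.FaithfullyFlat (Q.presheaf.stalk (g z)) (P.presheaf.stalk z) :=
    Module.FaithfullyFlat.of_flat_of_isLocalHom
  exact FaithfulSMul.algebraMap_injective (Q.presheaf.stalk (g z)) (P.presheaf.stalk z)

/-- A morphism over `S` is an isomorphism if it is one over the local rings of `S`. -/
theorem isIso_of_stalks {S : Scheme.{u}} {X Y : Over S} [LocallyOfFinitePresentation X.hom]
    [LocallyOfFiniteType Y.hom] (θ : X ⟶ Y)
    (h : ∀ s : S, IsIso ((Over.pullback (S.fromSpecStalk s)).map θ)) : IsIso θ := by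
  have hsq : ∀ s : S, ((Over.pullback (S.fromSpecStalk s)).map θ).left ≫ pullback.fst Y.hom (S.fromSpecStalk s) =
      pullback.fst X.hom (S.fromSpecStalk s) ≫ θ.left := fun s => pullback.lift_fst _ _ _
  have hpre : ∀ {Z : Over S} (s : S), IsPreimmersion (pullback.fst Z.hom (S.fromSpecStalk s)) := fun {Z} s =>
    MorphismProperty.pullback_fst _ _ inferInstance
  have hflat : ∀ {Z : Over S} (s : S), Flat (pullback.fst Z.hom (S.fromSpecStalk s)) := fun {Z} s =>
    MorphismProperty.pullback_fst _ _ (Groth.L15.OmegaGen.flat_fromSpecStalk s)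
  have hpt : ∀ {Z : Over S} (z : Z.left), ∃ z', pullback.fst Z.hom (S.fromSpecStalk (Z.hom z)) z' = z := fun {Z} z => by
    obtain ⟨z', hz', -⟩ := Scheme.Pullback.exists_preimage_pullback (f := Z.hom) (g := S.fromSpecStalk (Z.hom z))
      z (IsLocalRing.closedPoint _) Scheme.fromSpecStalk_closedPoint.symm
    exact ⟨z', hz'⟩
  have hiso : ∀ s, IsIso ((Over.pullback (S.fromSpecStalk s)).map θ).left := fun s => by
    haveI := h s
    exact inferInstanceAs (IsIso ((Over.forget _).map ((Over.pullback (S.fromSpecStalk s)).map θ)))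
  have hsurj : Function.Surjective θ.left := fun y => by
    obtain ⟨y', hy'⟩ := hpt y
    haveI := hiso (Y.hom y)
    obtain ⟨x', hx'⟩ := ((Over.pullback (S.fromSpecStalk (Y.hom y))).map θ).left.surjective y'
    refine ⟨pullback.fst X.hom _ x', ?_⟩
    rw [← Scheme.Hom.comp_apply, ← hsq, Scheme.Hom.comp_apply, hx', hy']
  have hinj : Function.Injective θ.left := fun a b hab => by
    have hs : X.hom a = X.hom b := by
      rw [← Over.w θ, Scheme.Hom.comp_apply, Scheme.Hom.comp_apply, hab]
    obtain ⟨a', ha'⟩ := hpt a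
    obtain ⟨b', hb', -⟩ := Scheme.Pullback.exists_preimage_pullback (f := X.hom) (g := S.fromSpecStalk (X.hom a))
      b (IsLocalRing.closedPoint _) (hs.symm.trans Scheme.fromSpecStalk_closedPoint.symm)
    haveI := hiso (X.hom a)
    haveI := hpre (Z := Y) (X.hom a)
    let θ' := ((Over.pullback (S.fromSpecStalk (X.hom a))).map θ).left
    have e : θ' a' = θ' b' := (pullback.fst Y.hom (S.fromSpecStalk (X.hom a))).isEmbedding.injective (by
      rw [← Scheme.Hom.comp_apply, ← Scheme.Hom.comp_apply, hsq, Scheme.Hom.comp_apply, Scheme.Hom.comp_apply,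
        ha', hb', hab])
    rw [← ha', ← hb', θ'.homeomorph.injective e]
  haveI hst : ∀ x, IsIso (θ.left.stalkMap x) := fun x => by
    have key : ∀ (s : S) (x' : ↥(pullback X.hom (S.fromSpecStalk s))),
        IsIso (θ.left.stalkMap (pullback.fst X.hom (S.fromSpecStalk s) x')) := fun s x' => by
      haveI := hiso s; haveI := hpre (Z := X) s; haveI := hflat (Z := X) s; haveI := hpre (Z := Y) s
      haveI := hflat (Z := Y) s
      let a := pullback.fst X.hom (S.fromSpecStalk s)
      let b := pullback.fst Y.hom (S.fromSpecStalk s)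
      let φ := ((Over.pullback (S.fromSpecStalk s)).map θ).left
      haveI : IsIso (a.stalkMap x') := isIso_stalkMap_of_flat a x'
      haveI : IsIso (b.stalkMap (φ x')) := isIso_stalkMap_of_flat b _
      haveI : IsIso (φ.stalkMap x') := inferInstance
      haveI : IsIso ((φ ≫ b).stalkMap x') := by rw [Scheme.Hom.stalkMap_comp]; exact @IsIso.comp_isIso _ _ _ _ _ _ _ ‹IsIso (b.stalkMap (φ x'))› ‹IsIso (φ.stalkMap x')›
      have e := Scheme.Hom.stalkMap_congr_hom (φ ≫ b) (a ≫ θ.left) (hsq s) x'
      haveI : IsIso ((a ≫ θ.left).stalkMap x') := IsIso.of_isIso_fac_left e.symm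
      haveI h2 : IsIso (θ.left.stalkMap (a x') ≫ a.stalkMap x') := Scheme.Hom.stalkMap_comp a θ.left x' ▸ this
      exact @IsIso.of_isIso_comp_right _ _ _ _ _ (θ.left.stalkMap (a x')) (a.stalkMap x') ‹IsIso (a.stalkMap x')› h2
    obtain ⟨x', hx'⟩ := hpt x
    exact hx' ▸ key _ x'
  haveI : Flat θ.left := Flat.of_stalkMap θ.left fun x => by
    haveI := hst x
    exact RingHom.Flat.of_bijective ((ConcreteCategory.isIso_iff_bijective _).1 (hst x))
  haveI : LocallyOfFinitePresentation θ.left := by
    haveI : LocallyOfFinitePresentation (θ.left ≫ Y.hom) := by rw [Over.w θ]; infer_instance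
    exact Groth.L20.locallyOfFinitePresentation_of_comp θ.left Y.hom
  have hopen : IsOpenMap θ.left := θ.left.isOpenMap
  haveI : IsOpenImmersion θ.left := IsOpenImmersion.of_isIso_stalkMap (f := θ.left)
    (Topology.IsOpenEmbedding.of_continuous_injective_isOpenMap θ.left.continuous hinj hopen)
  haveI : Epi θ.left.base := (TopCat.epi_iff_surjective _).2 hsurj
  haveI : IsIso θ.left := IsOpenImmersion.isIso θ.left
  haveI : IsIso ((Over.forget S).map θ) := ‹IsIso θ.left›
  exact isIso_of_reflects_iso θ (Over.forget S)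

end Groth.L15.Levi

end
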