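import Groth.Agent.L15.Levi.Given
import Groth.Agent.L15.TypeRConj.Torus
import Groth.Agent.L08.Borel.SelfCentral
import Groth.Agent.L08.Borel.RedRankTorus

/-!
Levi subgroups are of type (R) in the ambient group.
-/

set_option autoImplicit false
set_option linter.style.haveILetI false
set_option linter.unusedSectionVars false
set_option backward.isDefEq.respectTransparency.types false
set_option maxHeartbeats 1600000
universe u

open CategoryTheory CategoryTheory.Limits AlgebraicGeometry MonoidalCategory CartesianMonoidalCategory MonObj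
open Groth.L25 Groth.L14 Groth.L14.RankOne Groth.L14.BorelLoc Groth.L15.TypeRLe

noncomputable section

namespace Groth.L15.Levi

variable {S : Scheme.{u}} {G P L : Over S} [GrpObj G] [GrpObj P] [GrpObj L]

theorem isAffineHom_parabolic (hG : Red.IsReductive G) (p : P ⟶ G) (hP : Red.IsParabolic p) : IsAffineHom P.hom := by
  haveI := hG.1; haveI := hP.2.1
  rw [← Over.w p]; infer_instance

/-- The radical, stable under base change, and a Levi subgroup as its complement. -/
theorem exists_radical_compl (hG : Red.IsReductive G) (p : P ⟶ G) (hP : Red.IsParabolic p) (l : L ⟶ P)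
    (hl : Par.IsLevi l) :
    ∃ (U : Over S) (_ : GrpObj U) (u : U ⟶ P) (_ : IsMonHom u), IsClosedImmersion u.left ∧ Smooth U.hom ∧
      IsRadBC u ∧ Par.IsUnipotentRadical u ∧ IsCompl l u ∧ IsClosedImmersion l.left := by
  haveI := hP.2.2.1
  haveI := isAffineHom_parabolic hG p hP
  obtain ⟨U, gU, u, hu, hcl, hs, hrad⟩ := exists_radical hG p hP
  haveI := hu; haveI := hcl; haveI := hs
  exact ⟨U, gU, u, hu, hcl, hs, hrad, hrad.radical, isCompl_of_isLevi hl hrad.radical⟩

/-- A torus of a group containing a maximal torus isomorphic to it is maximal. -/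
theorem isMaximalTorus_of_iso {k : Type u} [Field k] [IsAlgClosed k] {G T : Over (Spec (CommRingCat.of k))}
    [GrpObj G] [GrpObj T] [Smooth G.hom] [QuasiCompact G.hom] {i : T ⟶ G} (hi : Red.IsMaximalTorus i) (v : T ⟶ G) [IsMonHom v] [Mono v] :
    Red.IsMaximalTorus v := by
  obtain ⟨m, hm⟩ := Groth.L08.Borel.exists_split_rank hi.2.2.1
  exact Groth.L08.Borel.isMaximalTorus_of_isMaxTorus
    (Groth.L08.Borel.isMaxTorus_of_rank v hi.2.2.1 hm (Groth.L08.Borel.isMaxTorus_of_isMaximalTorus hi) hm)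

/-- The composite of a torus of the parabolic with the retraction to a complement is injective. -/
theorem mono_retr {U L₀ : Over S} [GrpObj U] [GrpObj L₀] (l : L ⟶ P) (u : U ⟶ P) [IsMonHom l] [IsMonHom u]
    [IsIso ((l ⊗ₘ u) ≫ μ[P])] (hn : AlgGrp.IsNormalHom u) (l₀ : L₀ ⟶ P) [IsMonHom l₀]
    (h₀ : IsIso ((l₀ ⊗ₘ u) ≫ μ[P])) {T : Over S} (t₀ : T ⟶ L₀) [Mono t₀] : Mono (t₀ ≫ l₀ ≫ retr l u) := by
  haveI := isMonHom_retr (l := l) (u := u) hn
  refine ⟨fun {X} a b h => (cancel_mono t₀).1 ?_⟩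
  have hx : ((a ≫ t₀) * (b ≫ t₀)⁻¹) ≫ l₀ ≫ retr l u = 1 := by
    rw [MonObj.mul_comp, GrpObj.inv_comp, mul_inv_eq_one]
    simpa only [Category.assoc] using h
  obtain ⟨y, hy⟩ := exists_of_retr_eq (l := l) (u := u) _ (show (((a ≫ t₀) * (b ≫ t₀)⁻¹) ≫ l₀) ≫ retr l u = 1 by
    rw [Category.assoc]; exact hx)
  exact mul_inv_eq_one.1 (eq_one_of_mem h₀ hy.symm).1

/-- **A Levi subgroup is of type (R)** in the ambient group. -/
theorem isTypeR_levi (hG : Red.IsReductive G) (p : P ⟶ G) (hP : Red.IsParabolic p) (l : L ⟶ P) (hl : Par.IsLevi l) :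
    RedSub.IsTypeR (l ≫ p) := by
  obtain ⟨U, gU, u, hu, hucl, hus, hrad, hradU, hc, hlcl⟩ := exists_radical_compl hG p hP l hl
  haveI := hu; haveI := hucl; haveI := hus
  haveI := hc.hom; haveI := hc.smooth; haveI := hP.1; haveI := hP.2.1; haveI := hlcl
  haveI := hl.2.2.1.1
  haveI : QuasiCompact L.hom := inferInstance
  refine ⟨⟨inferInstance, by rw [Over.comp_left]; infer_instance⟩, hc.smooth, inferInstance, hc.conn, fun s => ?_⟩
  let F := Over.pullback (Red.geomPt s)
  have hG' := Groth.L14.Splitting.isReductive_bc hG (Red.geomPt s)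
  have hP' := isParabolic_bc hG hP (Red.geomPt s)
  haveI := hP'.1; haveI := hP'.2.2.1; haveI := hP'.2.1
  haveI : IsMonHom (F.map u) := Groth.L25.MonoClosed.isMonHom_pullbackMap _ _
  haveI : IsClosedImmersion (F.map u).left := MorphismProperty.overPullbackMap (P := @IsClosedImmersion) _ u hucl
  haveI : Smooth (F.obj U).hom := inferInstanceAs (Smooth (pullback.snd U.hom (Red.geomPt s)))
  have hc' := hc.bc (Red.geomPt s)
  haveI := hc'.hom; haveI := hc'.iso
  obtain ⟨T, gT, t, htm, ht⟩ := (isTypeR_parabolic hG hP).2.2.2.2 s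
  haveI := htm
  obtain ⟨L₀, gL₀, l₀, t₀, hL₀, hl₀cl, ht₀m, ht₀, hc₀⟩ :=
    exists_levi_given hG' (F.map p) hP' (F.map u) (hrad.bc _) t ht
  haveI := hc₀.hom; haveI := ht₀m
  have hn : AlgGrp.IsNormalHom (F.map u) := (hrad.out (Red.geomPt s)).2.2.1
  haveI := isMonHom_retr (l := F.map l) (u := F.map u) hn
  haveI : Mono (t₀ ≫ l₀ ≫ F.map p) := by
    have := ht.2.1
    rw [← ht₀, Category.assoc] at this
    exact this
  haveI : Mono t₀ := mono_of_mono t₀ (l₀ ≫ F.map p)
  haveI := mono_retr (F.map l) (F.map u) hn l₀ hc₀.iso t₀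
  haveI : Mono p := Groth.L08.mono_of_closedImmersion p
  haveI : Mono l := hl.2.1
  haveI : Mono (F.map (l ≫ p)) := Functor.map_mono _ _
  haveI : IsMonHom (F.map (l ≫ p)) := Groth.L25.MonoClosed.isMonHom_pullbackMap _ _
  haveI := hG'.1; haveI := hG'.2.1
  exact ⟨T, gT, t₀ ≫ l₀ ≫ retr (F.map l) (F.map u), inferInstance, isMaximalTorus_of_iso ht _⟩

/-- A Levi subgroup contains maximal tori of the ambient group, etale locally. -/
theorem exists_torus_levi (hG : Red.IsReductive G) (p : P ⟶ G) (hP : Red.IsParabolic p) (l : L ⟶ P)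
    (hl : Par.IsLevi l) (s : S) :
    ∃ (V : Scheme.{u}) (f : V ⟶ S) (_ : Etale f), s ∈ Set.range f.base ∧
      ∃ (T : Over V) (_ : GrpObj T) (t : T ⟶ Red.bc f L), IsMonHom t ∧
        Red.IsMaximalTorus (t ≫ (Over.pullback f).map l ≫ (Over.pullback f).map p) := by
  obtain ⟨V, f, hf, hs, T, gT, t, ht, hm⟩ := TypeRConj.exists_maxTorus hG _ (isTypeR_levi hG p hP l hl) s
  exact ⟨V, f, hf, hs, T, gT, t, ht, by rwa [Functor.map_comp] at hm⟩

end Groth.L15.Levi

end
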